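import Cfsg.Agent.Lib.MinusTen.Defs

/-!
helper2: blocks in the centre of the commutant of a normal subgroup of a group of isometries of a
minus type space of dimension ten form an orthogonal decomposition into isometric subspaces.
-/

set_option autoImplicit false
set_option linter.unusedSectionVars false

namespace Cfsg.Agent.Lib.MinusTen

open Matrix Module QuadraticMap Cfsg.Agent.Lib.MaxSub
open Cfsg.Agent.Lib.Geometry (quad_add quad_sub quad_smul quad_polar_self quad_polar_comm)
open Cfsg.Agent.Lib.TwoPrimeDim (centre mem_centre centre_comm img mem_img_idem)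
open scoped MatrixGroups Matrix

attribute [-simp] QuadraticMap.polarBilin_apply_apply

variable {F : Type*} [Field F]

local notation "MM" => Matrix (Fin 10) (Fin 10) F
local notation "VV" => (Fin 10 → F)
local notation "GG" => GL (Fin 10) F

variable {Q : QuadraticForm F (Fin 10 → F)}

/-- `Y` is the adjoint of `X`. -/
def IsAdj (Q : QuadraticForm F VV) (X Y : MM) : Prop :=
  ∀ u v : VV, polarBilin Q (X *ᵥ u) v = polarBilin Q u (Y *ᵥ v)

theorem IsAdj.symm {X Y : MM} (h : IsAdj Q X Y) : IsAdj Q Y X := fun u v => by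
  rw [quad_polar_comm, ← h, quad_polar_comm]

theorem IsAdj.mul {X Y X' Y' : MM} (h : IsAdj Q X Y) (h' : IsAdj Q X' Y') : IsAdj Q (X * X') (Y' * Y) := fun u v => by
  rw [← mulVec_mulVec, h, h', mulVec_mulVec]

theorem IsAdj.zero : IsAdj Q (0 : MM) 0 := fun u v => by simp

theorem IsAdj.unique (hN : (polarBilin Q).Nondegenerate) {X Y Y' : MM} (h : IsAdj Q X Y) (h' : IsAdj Q X Y') :
    Y = Y' := by
  refine Matrix.ext_iff_mulVec.2 fun v => sub_eq_zero.1 (hN.2 _ fun u => ?_)
  rw [map_sub, ← h, ← h', sub_self]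

theorem isAdj_of_isometry {g : GG} (hg : g ∈ Cfsg.isometryGroup F (Q : VV → F)) : IsAdj Q (g : MM) ((g⁻¹ : GG) : MM) :=
  fun u v => by
    conv_lhs => rw [show v = (g : MM) *ᵥ (((g⁻¹ : GG) : MM) *ᵥ v) by simp [mulVec_mulVec, -Matrix.coe_units_inv]]
    rw [Orth.iso_polar hg]

theorem exists_isAdj (hN : (polarBilin Q).Nondegenerate) (X : MM) : ∃ Y : MM, IsAdj Q X Y := by
  let L : VV →ₗ[F] VV :=
    (LinearMap.BilinForm.toDual (polarBilin Q) hN).symm.toLinearMap ∘ₗ
      ((polarBilin Q).comp (Matrix.toLin' X)).flip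
  refine ⟨LinearMap.toMatrix' L, fun u v => ?_⟩
  rw [← Matrix.toLin'_apply (LinearMap.toMatrix' L), Matrix.toLin'_toMatrix', quad_polar_comm Q u]
  show _ = polarBilin Q (L v) u
  rw [← LinearMap.BilinForm.toDual_def (B := polarBilin Q) hN]
  simp [L, LinearMap.BilinForm.toDual_def]

theorem adj_mem_centre (hN : (polarBilin Q).Nondegenerate) {N : Subgroup GG}
    (hiso : N ≤ Cfsg.isometryGroup F (Q : VV → F)) {X Y : MM} (hX : X ∈ centre N) (hY : IsAdj Q X Y) :
    Y ∈ centre N := by
  have hcomm : ∀ {X Y : MM}, IsAdj Q X Y → (∀ g ∈ N, (g : MM) * X = X * (g : MM)) →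
      ∀ g ∈ N, (g : MM) * Y = Y * (g : MM) := by
    intro X Y hY hX g hg
    have hg' : IsAdj Q ((g⁻¹ : GG) : MM) (g : MM) := by
      simpa [-Matrix.coe_units_inv] using isAdj_of_isometry (Q := Q) (hiso (inv_mem hg))
    exact (hY.mul hg').unique hN ((hX _ (inv_mem hg)) ▸ hg'.mul hY)
  obtain ⟨hX1, hX2⟩ := mem_centre.1 hX
  refine mem_centre.2 ⟨hcomm hY hX1, fun Z hZ => ?_⟩
  obtain ⟨Z', hZ'⟩ := exists_isAdj hN Z
  exact (hY.mul hZ'.symm).unique hN ((hX2 Z' (hcomm hZ' hZ)) ▸ hZ'.symm.mul hY)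

theorem quad_sum {ι : Type*} (s : Finset ι) (x : ι → VV)
    (h : ∀ i ∈ s, ∀ j ∈ s, i ≠ j → polarBilin Q (x i) (x j) = 0) : Q (∑ i ∈ s, x i) = ∑ i ∈ s, Q (x i) := by
  classical
  induction s using Finset.induction_on with
  | empty => simp
  | insert a s ha ih =>
    rw [Finset.sum_insert ha, Finset.sum_insert ha, quad_add,
      ih fun i hi j hj => h i (Finset.mem_insert_of_mem hi) j (Finset.mem_insert_of_mem hj), map_sum,
      Finset.sum_eq_zero (fun j hj => h a (Finset.mem_insert_self a s) j (Finset.mem_insert_of_mem hj)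
        fun e => ha (e ▸ hj)), add_zero]

variable [Fintype F]

/-- The blocks form an orthogonal decomposition into isometric subspaces. -/
theorem blocks_orthogonal (hQ : Minus Q) {G N : Subgroup GG} (hG : G ≤ Cfsg.isometryGroup F (Q : VV → F))
    (hirr : Cfsg.Geo.ActsIrreducibly (Cfsg.Geo.matrixSet G)) (hNG : N ≤ G) {t w : ℕ} {e : Fin t → MM}
    (hB : TwoPrimeDim.Blocks G N w e) :
    Cfsg.Geo.IsOrthogonalMDecomposition (Q : VV → F) w (fun i => img (e i)) := by
  classical
  have hN := hQ.nd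
  have hiso : N ≤ Cfsg.isometryGroup F (Q : VV → F) := hNG.trans hG
  choose E hE using fun i => exists_isAdj hN (e i)
  have hEc : ∀ i, E i ∈ centre N := fun i => adj_mem_centre hN hiso (hB.mem i) (hE i)
  have hπ : ∀ i, ∃ j, E i = e j := by
    intro i
    refine hB.exists_eq (hEc i) ?_ ?_ fun j => ?_
    · exact ((hE i).mul (hE i)).unique hN ((hB.idem i).symm ▸ hE i)
    · intro h0
      have h := (hE i).symm
      rw [h0] at h
      exact hB.ne_zero i (h.unique hN IsAdj.zero)
    · rcases hB.prim i (E j) (hEc j) (((hE j).mul (hE j)).unique hN ((hB.idem j).symm ▸ hE j)) with h | h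
      · left
        have h' := (hE i).mul (hE j).symm
        rw [h] at h'
        rw [centre_comm (hEc i) (hB.mem j)]
        exact h'.unique hN IsAdj.zero
      · right
        have h' := (hE i).mul (hE j).symm
        rw [h] at h'
        rw [centre_comm (hEc i) (hB.mem j)]
        exact h'.unique hN (hE i)
  choose π hπ using hπ
  have hadj : ∀ i, IsAdj Q (e i) (e (π i)) := fun i => hπ i ▸ hE i
  have hinj : ∀ i j, e i = e j → i = j := fun i j h => by
    by_contra hne
    exact hB.ne_zero i (by rw [← hB.idem i]; conv_lhs => arg 2; rw [h]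
                           exact hB.orth i j hne)
  have hππ : ∀ i, π (π i) = i := fun i => hinj _ _ ((hadj (π i)).unique hN (hadj i).symm)
  have hBij : ∀ i j u v, j ≠ π i → polarBilin Q (e i *ᵥ u) (e j *ᵥ v) = 0 := fun i j u v h => by
    rw [hadj i, mulVec_mulVec, hB.orth _ _ h.symm, zero_mulVec, map_zero]
  have hconj : ∀ g ∈ G, ∀ i j, (g : MM) * e i * ((g⁻¹ : GG) : MM) = e j →
      (g : MM) * e (π i) * ((g⁻¹ : GG) : MM) = e (π j) := by
    intro g hg i j h
    have hg' : IsAdj Q ((g⁻¹ : GG) : MM) (g : MM) := by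
      simpa [-Matrix.coe_units_inv] using isAdj_of_isometry (Q := Q) (hG (inv_mem hg))
    have := ((isAdj_of_isometry (hG hg)).mul (hadj i)).mul hg'
    rw [h] at this
    rw [mul_assoc]
    exact this.unique hN (hadj j)
  have hmove : ∀ g ∈ G, ∀ i j, (g : MM) * e i * ((g⁻¹ : GG) : MM) = e j → (g : MM) * e i = e j * (g : MM) := by
    intro g _ i j h
    rw [← h, mul_assoc _ _ (g : MM), Units.inv_mul, mul_one]
  have himg : ∀ i v, v ∈ img (e i) ↔ e i *ᵥ v = v := fun i v => mem_img_idem (hB.idem i)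
  by_cases hfix : ∃ i, π i = i
  · obtain ⟨i₀, hi₀⟩ := hfix
    have hall : ∀ i, π i = i := by
      intro i
      obtain ⟨g, hg, hgi⟩ := hB.trans i₀ i
      have h := hconj g hg i₀ i hgi
      rw [hi₀, hgi] at h
      exact (hinj _ _ h).symm
    have horth : ∀ i j, i ≠ j → ∀ u ∈ img (e i), ∀ v ∈ img (e j), polarBilin Q u v = 0 := by
      intro i j hij u hu v hv
      rw [← (himg i u).1 hu, ← (himg j v).1 hv]
      exact hBij i j u v (by rw [hall]; exact hij.symm)
    refine ⟨⟨hB.decomp, fun i v hv hv0 => ?_, fun i j hij u hu v hv => horth i j hij u hu v hv⟩, fun i j => ?_⟩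
    · obtain ⟨x, hx, hxv⟩ : ∃ x ∈ img (e i), polarBilin Q v x ≠ 0 := by
        by_contra hc
        push Not at hc
        refine hv0 (hN.1 v fun y => ?_)
        rw [← one_mulVec y, ← hB.sum_eq, sum_mulVec, map_sum]
        refine Finset.sum_eq_zero fun j _ => ?_
        by_cases hij : i = j
        · subst hij; exact hc _ ((himg i _).2 (by rw [mulVec_mulVec, hB.idem]))
        · exact horth i j hij v hv _ ((himg j _).2 (by rw [mulVec_mulVec, hB.idem]))
      exact ⟨⟨x, hx, by rw [← polarBilin_apply_apply, quad_polar_comm]; exact hxv⟩,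
        x, hx, by rw [← polarBilin_apply_apply]; exact hxv⟩
    · obtain ⟨g, hg, hgi⟩ := hB.trans i j
      let φ : VV →ₗ[F] VV := Matrix.toLin' (g : MM)
      have hφ : Function.Injective φ := fun x y hxy => by
        have := congrArg (((g⁻¹ : GG) : MM) *ᵥ ·) hxy
        simpa [φ, Matrix.toLin'_apply, mulVec_mulVec, -Matrix.coe_units_inv] using this
      refine ⟨(Submodule.equivMapOfInjective φ hφ (img (e i))).trans
        (LinearEquiv.ofEq _ _ (by rw [TwoPrimeDim.map_img_conj, hgi])), fun v => ?_⟩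
      show Q (φ (v : VV)) = Q (v : VV)
      rw [Matrix.toLin'_apply, Orth.iso_quad (hG hg)]
  exfalso
  push Not at hfix
  let K : Fin t → Submodule F VV := fun i =>
    { carrier := {v | e i *ᵥ v = v ∧ Q v = 0}
      add_mem' := fun {u v} hu hv => ⟨by rw [mulVec_add, hu.1, hv.1], by
        rw [quad_add, hu.2, hv.2, zero_add, zero_add, ← hu.1, ← hv.1]
        exact hBij i i u v (hfix i).symm⟩
      zero_mem' := ⟨mulVec_zero _, map_zero _⟩
      smul_mem' := fun r v hv => ⟨by rw [mulVec_smul, hv.1], by rw [quad_smul, hv.2, mul_zero]⟩ }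
  let W : Submodule F VV := ⨆ i, K i
  have hWinv : ∀ g ∈ G, ∀ v ∈ W, (g : MM) *ᵥ v ∈ W := by
    intro g hg v hv
    have : W ≤ W.comap (Matrix.toLin' (g : MM)) := iSup_le fun i u hu => by
      obtain ⟨σ, hσ⟩ := hB.perm g hg
      refine Submodule.mem_iSup_of_mem (σ i) ⟨?_, ?_⟩
      · rw [Matrix.toLin'_apply, mulVec_mulVec, ← hmove g hg i (σ i) (hσ i), ← mulVec_mulVec, hu.1]
      · rw [Matrix.toLin'_apply, Orth.iso_quad (hG hg), hu.2]
    simpa [Submodule.mem_comap, Matrix.toLin'_apply] using this hv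
  rcases (TwoPrimeDim.actsIrreducibly_iff G).1 hirr W hWinv with hW | hW
  · -- every block is an anisotropic line
    have hK : ∀ i v, e i *ᵥ v = v → Q v = 0 → v = 0 := fun i v hv hQv => by
      have : v ∈ W := Submodule.mem_iSup_of_mem i ⟨hv, hQv⟩
      rwa [hW, Submodule.mem_bot] at this
    have h2 : (2 : F) = 0 := by
      by_contra h2
      refine hB.ne_zero (π ⟨0, by have := hB.decomp.two_le; omega⟩) (Matrix.ext_iff_mulVec.2 fun v => ?_)
      rw [zero_mulVec]
      refine hK _ _ (by rw [mulVec_mulVec, hB.idem]) ?_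
      have := hBij _ _ v v (hfix (π ⟨0, by have := hB.decomp.two_le; omega⟩)).symm
      rw [quad_polar_self] at this
      exact (mul_eq_zero.1 this).resolve_left h2
    haveI : CharP F 2 := CharTwo.of_one_ne_zero_of_two_eq_zero one_ne_zero h2
    have hone : ∀ i, ∃ u, e i *ᵥ u = u ∧ Q u = 1 := by
      intro i
      obtain ⟨v, hv⟩ : ∃ v, e i *ᵥ v ≠ 0 := by
        by_contra hc
        push Not at hc
        exact hB.ne_zero i (Matrix.ext_iff_mulVec.2 fun v => by rw [zero_mulVec, hc v])
      have hne : Q (e i *ᵥ v) ≠ 0 := fun h0 => hv (hK i _ (by rw [mulVec_mulVec, hB.idem]) h0)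
      obtain ⟨r, hr⟩ := FiniteField.isSquare_of_char_two (ringChar.eq F 2) (Q (e i *ᵥ v))⁻¹
      refine ⟨r • (e i *ᵥ v), by rw [mulVec_smul, mulVec_mulVec, hB.idem], ?_⟩
      rw [quad_smul, ← hr, inv_mul_cancel₀ hne]
    choose u hu using hone
    have huniq : ∀ i v, e i *ᵥ v = v → Q v = 1 → v = u i := fun i v hv hQv => by
      refine sub_eq_zero.1 (hK i _ (by rw [mulVec_sub, hv, (hu i).1]) ?_)
      rw [quad_sub, hQv, (hu i).2, ← hv, ← (hu i).1, hBij i i _ _ (hfix i).symm, sub_zero]
      linear_combination h2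
    have hsumfix : ∀ g ∈ G, (g : MM) *ᵥ (∑ i, u i) = ∑ i, u i := by
      intro g hg
      obtain ⟨σ, hσ⟩ := hB.perm g hg
      rw [mulVec_sum, ← Equiv.sum_comp σ u]
      refine Finset.sum_congr rfl fun i _ => huniq _ _ ?_ (by rw [Orth.iso_quad (hG hg), (hu i).2])
      rw [mulVec_mulVec, ← hmove g hg i (σ i) (hσ i), ← mulVec_mulVec, (hu i).1]
    let i₀ : Fin t := ⟨0, by have := hB.decomp.two_le; omega⟩
    have hne : (∑ i, u i) ≠ 0 := by
      intro h0
      have h1 := congrArg (e i₀ *ᵥ ·) h0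
      simp only [mulVec_sum, mulVec_zero] at h1
      rw [Finset.sum_eq_single i₀ (fun j _ hj => by
        rw [← (hu j).1, mulVec_mulVec, hB.orth _ _ hj.symm, zero_mulVec]) (by simp), (hu i₀).1] at h1
      have := (hu i₀).2
      rw [h1, map_zero] at this
      exact zero_ne_one this
    rcases (TwoPrimeDim.actsIrreducibly_iff G).1 hirr (F ∙ ∑ i, u i) (fun g hg v hv => by
        obtain ⟨r, rfl⟩ := Submodule.mem_span_singleton.1 hv
        rw [mulVec_smul, hsumfix g hg]
        exact Submodule.smul_mem _ _ (Submodule.mem_span_singleton_self _)) with h | h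
    · exact hne (Submodule.span_singleton_eq_bot.1 h)
    · have := finrank_span_singleton (K := F) hne
      rw [h, finrank_top, Module.finrank_fin_fun] at this
      omega
  · -- two complementary totally singular halves
    have hQe : ∀ i v, Q (e i *ᵥ v) = 0 := by
      intro i v
      have hle : W ≤ (K i).comap (Matrix.toLin' (e i)) := iSup_le fun j x hx => by
        rw [Submodule.mem_comap, Matrix.toLin'_apply]
        by_cases hij : i = j
        · subst hij; rw [hx.1]; exact hx
        · rw [← hx.1, mulVec_mulVec, hB.orth _ _ hij, zero_mulVec]; exact zero_mem _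
      have := hle (hW ▸ Submodule.mem_top : v ∈ W)
      rw [Submodule.mem_comap, Matrix.toLin'_apply] at this
      exact this.2
    let S : Finset (Fin t) := Finset.univ.filter fun i => i < π i
    have hts : ∀ T : Finset (Fin t), (∀ i ∈ T, ∀ j ∈ T, j ≠ π i) → ∀ x ∈ img (∑ i ∈ T, e i), Q x = 0 := by
      rintro T hT _ ⟨x, rfl⟩
      rw [Matrix.toLin'_apply, sum_mulVec, quad_sum _ _ fun i hi j hj _ => hBij i j x x (hT i hi j hj)]
      exact Finset.sum_eq_zero fun i _ => hQe i x
    have h1 := hQ.finrank_ts_le (hts S fun i hi j hj h => by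
      simp only [S, Finset.mem_filter, Finset.mem_univ, true_and] at hi hj
      subst h
      rw [hππ] at hj
      omega)
    have h3 := hQ.finrank_ts_le (hts Sᶜ fun i hi j hj h => by
      simp only [S, Finset.mem_compl, Finset.mem_filter, Finset.mem_univ, true_and, not_lt] at hi hj
      subst h
      rw [hππ] at hj
      exact hfix i (le_antisymm hi hj))
    have hle : (⊤ : Submodule F VV) ≤ img (∑ i ∈ S, e i) ⊔ img (∑ i ∈ Sᶜ, e i) := fun v _ => Submodule.mem_sup.2
      ⟨(∑ i ∈ S, e i) *ᵥ v, ⟨v, Matrix.toLin'_apply _ _⟩, (∑ i ∈ Sᶜ, e i) *ᵥ v, ⟨v, Matrix.toLin'_apply _ _⟩, by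
        rw [← add_mulVec, Finset.sum_add_sum_compl, hB.sum_eq, one_mulVec]⟩
    have hd := Submodule.finrank_mono hle
    have hd' := Submodule.finrank_add_le_finrank_add_finrank (img (∑ i ∈ S, e i)) (img (∑ i ∈ Sᶜ, e i))
    rw [finrank_top, Module.finrank_fin_fun] at hd
    omega

/-- The blocks lead to the three decomposition steps. -/
theorem blocks_cases_of (hQ : Minus Q) {H N : Subgroup GG}
    (hH : Cfsg.Geo.IsMaximalIn (Cfsg.Geo.omegaGL (Q : VV → F)) H)
    (hirr : Cfsg.Geo.ActsIrreducibly (Cfsg.Geo.matrixSet H)) (hN : N ≤ H)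
    {t w : ℕ} {e : Fin t → MM} (hB : TwoPrimeDim.Blocks H N w e)
    (hlines : ∀ D : Fin 10 → Submodule F VV, Cfsg.Geo.IsOrthogonalMDecomposition (Q : VV → F) 1 D →
      H ≤ Cfsg.Geo.decompositionStabilizer D → Cases Q H)
    (hplanes : ∀ D : Fin 5 → Submodule F VV, Cfsg.Geo.IsOrthogonalMDecomposition (Q : VV → F) 2 D →
      H ≤ Cfsg.Geo.decompositionStabilizer D → Cases Q H)
    (hhalves : ∀ D : Fin 2 → Submodule F VV, Cfsg.Geo.IsOrthogonalMDecomposition (Q : VV → F) 5 D →
      H ≤ Cfsg.Geo.decompositionStabilizer D → Cases Q H) : Cases Q H := by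
  have hD := blocks_orthogonal hQ (hH.1.le.trans MaxSub.Orth.omegaGL_le_isometry) hirr hN hB
  have ht : t * w = 10 := hB.card_eq.trans (Fintype.card_fin 10)
  have ht2 : 2 ≤ t := hB.decomp.two_le
  have hd : t ∈ Nat.divisors 10 := Nat.mem_divisors.2 ⟨⟨w, ht.symm⟩, by norm_num⟩
  rw [show Nat.divisors 10 = {1, 2, 5, 10} by decide] at hd
  simp only [Finset.mem_insert, Finset.mem_singleton] at hd
  rcases hd with rfl | rfl | rfl | rfl
  · omega
  · obtain rfl : w = 5 := by omega
    exact hhalves _ hD hB.le_stab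
  · obtain rfl : w = 2 := by omega
    exact hplanes _ hD hB.le_stab
  · obtain rfl : w = 1 := by omega
    exact hlines _ hD hB.le_stab

end Cfsg.Agent.Lib.MinusTen
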