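import Cfsg.Agent.Lib.MinusTen.Defs
import Cfsg.Agent.Lib.OrthNine.Adjoint

/-!
helper20: a self-adjoint field of degree five in dimension ten extends to a field of degree ten, or gives two
complementary totally singular subspaces permuted by the group (any type).
-/

set_option autoImplicit false
set_option linter.unusedSectionVars false
set_option linter.style.haveILetI false
set_option maxHeartbeats 1600000

namespace Cfsg.Agent.Lib.MinusTen

open Matrix Module Cfsg.Geo
open Cfsg.Agent.Lib.MaxSub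
open Cfsg.Agent.Lib.Geometry (quad_polar_comm quad_polar_self quad_smul)
open Cfsg.Agent.Lib.OrthNine.Adjoint (Adj)
open QuadraticMap (polarBilin)
open scoped MatrixGroups Matrix

attribute [-simp] QuadraticMap.polarBilin_apply_apply

variable {F : Type*} [Field F] [Fintype F] {Q : QuadraticForm F (Fin 10 → F)}

local notation "MM" => Matrix (Fin 10) (Fin 10) F
local notation "VV" => (Fin 10 → F)

/-- A field of degree five in dimension ten lies in one of degree ten or has two singular lines. -/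
theorem ten_of_five_any (hN : (polarBilin Q).Nondegenerate) {H : Subgroup (Matrix.GeneralLinearGroup (Fin 10) F)}
    (hiso : ∀ h ∈ H, h ∈ Cfsg.isometryGroup F ⇑Q) {K : Subalgebra F (Matrix (Fin 10) (Fin 10) F)}
    (hK : IsFieldSubalgebra 5 K) (hadj : IsAdjointClosedFor (QuadraticMap.polar ⇑Q) K)
    (hnor : ∀ h ∈ H, h ∈ subalgebraNormalizer K) :
    (∃ E : Subalgebra F (Matrix (Fin 10) (Fin 10) F), IsFieldSubalgebra 10 E ∧
      IsAdjointClosedFor (QuadraticMap.polar ⇑Q) E ∧ ∀ h ∈ H, h ∈ subalgebraNormalizer E) ∨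
    ∃ U U₂ : Submodule F (Fin 10 → F), (∀ u ∈ U, Q u = 0) ∧ (∀ u ∈ U₂, Q u = 0) ∧ Module.finrank F U = 5 ∧
      Module.finrank F U₂ = 5 ∧ U ≠ U₂ ∧ U ⊓ U₂ = ⊥ ∧ U ⊔ U₂ = ⊤ ∧ ∀ h ∈ H,
        (U.map (Matrix.toLin' (h : Matrix (Fin 10) (Fin 10) F)) = U ∧
          U₂.map (Matrix.toLin' (h : Matrix (Fin 10) (Fin 10) F)) = U₂) ∨
        (U.map (Matrix.toLin' (h : Matrix (Fin 10) (Fin 10) F)) = U₂ ∧
          U₂.map (Matrix.toLin' (h : Matrix (Fin 10) (Fin 10) F)) = U) := by
  classical
  haveI : Nontrivial K := ⟨⟨0, 1, fun h => zero_ne_one (α := MM) (congrArg Subtype.val h)⟩⟩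
  have hf : IsField K := ⟨⟨0, 1, zero_ne_one⟩, fun x y => Subtype.ext (hK.comm x x.2 y y.2), fun {a} ha => by
    obtain ⟨y, hy, hay⟩ := hK.inv _ a.2 fun h => ha (Subtype.ext h)
    exact ⟨⟨y, hy⟩, Subtype.ext hay⟩⟩
  letI : _root_.Field K := hf.toField
  haveI : Finite K := Finite.of_injective (fun x : K => (x : MM)) Subtype.val_injective
  let B := polarBilin Q
  have hrank : Module.finrank F K = 5 := hK.finrank_eq
  -- the field is self-adjoint
  have hsa : ∀ (k : K) (u v : VV), B ((k : MM) *ᵥ u) v = B u ((k : MM) *ᵥ v) := by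
    choose a ha hadj' using fun k : K => hadj k k.2
    have hB : ∀ k : K, Adj Q (k : MM) (a k) := hadj'
    have huniq : ∀ (k : K) (k' : MM), Adj Q (k : MM) k' → a k = k' := fun k k' h => (hB k).unique hN h
    let φ : K →ₐ[F] K :=
      { toFun := fun k => ⟨a k, ha k⟩
        map_one' := Subtype.ext (huniq 1 1 OrthNine.Adjoint.adj_one)
        map_mul' := fun x y => Subtype.ext ((huniq (x * y) (a y * a x) ((hB x).mul (hB y))).trans
          (hK.comm _ (ha y) _ (ha x)))
        map_zero' := Subtype.ext (huniq 0 0 fun u v => by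
          simp only [ZeroMemClass.coe_zero, Matrix.zero_mulVec, map_zero, LinearMap.zero_apply])
        map_add' := fun x y => Subtype.ext (huniq (x + y) (a x + a y) fun u v => by
          simp only [Subalgebra.coe_add, Matrix.add_mulVec, map_add, LinearMap.add_apply, hB x u v, hB y u v])
        commutes' := fun c => Subtype.ext (huniq _ (algebraMap F MM c) fun u v => by
          simp only [Algebra.algebraMap_eq_smul_one, SetLike.val_smul, OneMemClass.coe_one, Matrix.smul_mulVec,
            Matrix.one_mulVec, map_smul, LinearMap.smul_apply]) }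
    let g : K ≃ₐ[F] K := AlgEquiv.ofBijective φ φ.bijective
    have hg2 : g * g = 1 := AlgEquiv.ext fun k => Subtype.ext (huniq (φ k) k (hB k).symm)
    have hcard : Nat.card (K ≃ₐ[F] K) = 5 := by rw [IsGalois.card_aut_eq_finrank, hrank]
    have hg1 : g = 1 := by
      have h1 : orderOf g ∣ 2 := orderOf_dvd_of_pow_eq_one (by rw [pow_two, hg2])
      have h2 : orderOf g ∣ 5 := hcard ▸ orderOf_dvd_natCard g
      exact orderOf_eq_one_iff.mp (Nat.eq_one_of_dvd_coprimes (show Nat.Coprime 2 5 by norm_num) h1 h2)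
    intro k u v
    have h : a k = (k : MM) := congrArg (fun g : K ≃ₐ[F] K => ((g k : K) : MM)) hg1
    have h2 := hB k u v
    rwa [h] at h2
  -- every element is a difference of squares
  have hsq : ∀ l : K, ∃ μ ν : K, μ * μ - ν * ν = l := by
    intro l
    by_cases h2 : (2 : K) = 0
    · haveI : CharP K 2 := CharTwo.of_one_ne_zero_of_two_eq_zero one_ne_zero h2
      obtain ⟨z, hz⟩ := FiniteField.isSquare_of_char_two (ringChar.eq K 2) l
      exact ⟨z, 0, by rw [mul_zero, sub_zero, hz]⟩
    · refine ⟨(l + 1) / 2, (l - 1) / 2, ?_⟩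
      have h4 : (4 : K) ≠ 0 := by
        rw [show (4 : K) = 2 * 2 by norm_num]
        exact mul_ne_zero h2 h2
      field_simp
      ring
  -- evaluation
  let ev : VV → (K →ₗ[F] VV) := fun e =>
    { toFun := fun x => (x : MM) *ᵥ e
      map_add' := fun x y => by simp [Matrix.add_mulVec]
      map_smul' := fun c x => by simp [Matrix.smul_mulVec] }
  have hev : ∀ (e : VV) (x : K), ev e x = (x : MM) *ᵥ e := fun _ _ => rfl
  have hevmul : ∀ (e : VV) (x y : K), (x : MM) *ᵥ ev e y = ev e (x * y) := fun e x y => by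
    rw [hev, hev, Matrix.mulVec_mulVec, Subalgebra.coe_mul]
  have hevinj : ∀ (e : VV), e ≠ 0 → Function.Injective (ev e) := fun e he => by
    refine (injective_iff_map_eq_zero _).mpr fun x hx => ?_
    by_contra hx0
    refine he ?_
    have h := hevmul e x⁻¹ x
    rw [hx, Matrix.mulVec_zero, inv_mul_cancel₀ hx0, hev, OneMemClass.coe_one, Matrix.one_mulVec] at h
    exact h.symm
  -- a two dimensional basis over the field
  obtain ⟨e1, he1, hsel⟩ : ∃ e : VV, e ≠ 0 ∧
      ((∀ f : VV, f ≠ 0 → ∃ x : K, Q (ev f x) ≠ 0) ∨ ∀ x : K, Q (ev e x) = 0) := by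
    by_cases hs : ∃ e : VV, e ≠ 0 ∧ ∀ x : K, Q (ev e x) = 0
    · obtain ⟨e, he, hse⟩ := hs
      exact ⟨e, he, Or.inr hse⟩
    · push Not at hs
      obtain ⟨e, he⟩ := exists_ne (0 : VV)
      exact ⟨e, he, Or.inl hs⟩
  obtain ⟨e2, he2⟩ : ∃ e : VV, e ∉ LinearMap.range (ev e1) := by
    by_contra hc
    push Not at hc
    have h := (ev e1).finrank_range_le
    rw [LinearMap.range_eq_top.mpr fun v => hc v, finrank_top, Module.finrank_fin_fun, hrank] at h
    omega
  let φ0 : (K × K) →ₗ[F] VV := (ev e1).coprod (ev e2)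
  have hφinj : Function.Injective φ0 := by
    refine (injective_iff_map_eq_zero _).mpr fun p hp => ?_
    obtain ⟨x, y⟩ := p
    change ev e1 x + ev e2 y = 0 at hp
    by_cases hy : y = 0
    · rw [hy, map_zero, add_zero] at hp
      rw [hy, hevinj e1 he1 (hp.trans (map_zero _).symm)]
      rfl
    · refine absurd ⟨-(y⁻¹ * x), ?_⟩ he2
      have h := congrArg (fun v => (((y⁻¹ : K)) : MM) *ᵥ v) hp
      simp only [Matrix.mulVec_add, hevmul, Matrix.mulVec_zero, inv_mul_cancel₀ hy] at h
      rw [show ev e2 1 = e2 by rw [hev, OneMemClass.coe_one, Matrix.one_mulVec]] at h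
      rw [map_neg]
      exact (eq_neg_of_add_eq_zero_right h).symm
  let φ : (K × K) ≃ₗ[F] VV := LinearEquiv.ofBijective φ0 ⟨hφinj, by
    refine (LinearMap.injective_iff_surjective_of_finrank_eq_finrank ?_).mp hφinj
    rw [Module.finrank_prod, hrank, Module.finrank_fin_fun]⟩
  have hφ : ∀ p : K × K, φ p = ev e1 p.1 + ev e2 p.2 := fun p => rfl
  have hact : ∀ (x : K) (p : K × K), (x : MM) *ᵥ φ p = φ (x * p.1, x * p.2) := fun x p => by
    rw [hφ, hφ, Matrix.mulVec_add, hevmul, hevmul]
  have hext : ∀ A C : MM, (∀ p, A *ᵥ φ p = C *ᵥ φ p) → A = C := fun A C h =>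
    Matrix.ext_of_mulVec_single fun j => by
      obtain ⟨p, hp⟩ := φ.surjective (Pi.single j 1)
      rw [← hp]
      exact h p
  -- duality
  obtain ⟨θ, x₀, hθ⟩ : ∃ (θ : K →ₗ[F] F) (x₀ : K), θ x₀ ≠ 0 := by
    let b := Module.finBasis F K
    have hpos : 0 < Module.finrank F K := by omega
    refine ⟨b.coord ⟨0, hpos⟩, b ⟨0, hpos⟩, ?_⟩
    rw [Module.Basis.coord_apply, b.repr_self, Finsupp.single_eq_same]
    exact one_ne_zero
  let R : K →ₗ[F] (K →ₗ[F] F) := (LinearMap.mul F K).compr₂ θ
  have hR : ∀ x y : K, R x y = θ (x * y) := fun _ _ => rfl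
  have hRinj : ∀ a : K, (∀ y, θ (a * y) = 0) → a = 0 := fun a h => by
    by_contra ha
    refine hθ ?_
    have h' := h (a⁻¹ * x₀)
    rwa [mul_inv_cancel_left₀ ha] at h'
  have hRsurj : Function.Surjective R := by
    refine (LinearMap.injective_iff_surjective_of_finrank_eq_finrank (Subspace.dual_finrank_eq (K := F) (V := K)).symm).mp ?_
    exact (injective_iff_map_eq_zero _).mpr fun a ha => hRinj a fun y => by rw [← hR, ha]; rfl
  have hquad : ∀ e : VV, ∃ a : K, ∀ x : K, Q (ev e x) = θ (a * (x * x)) := by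
    intro e
    by_cases h2 : (2 : F) = 0
    · haveI : CharP F 2 := CharTwo.of_one_ne_zero_of_two_eq_zero one_ne_zero h2
      haveI : CharP K 2 := charP_of_injective_algebraMap (algebraMap F K).injective 2
      have hz0 : ∀ x : K, B (ev e x) (ev e x) = 0 := fun x => by rw [quad_polar_self, h2, zero_mul]
      choose r hr using fun x : K => FiniteField.isSquare_of_char_two (ringChar.eq K 2) x
      have hinj : ∀ a b : K, a * a = b * b → a = b := fun a b h => by
        rcases mul_self_eq_mul_self_iff.mp h with h | h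
        · exact h
        · rwa [CharTwo.neg_eq] at h
      have hradd : ∀ x y, r (x + y) = r x + r y := fun x y => hinj _ _ (by
        rw [← hr, CharTwo.add_mul_self, ← hr, ← hr])
      let L : K →ₗ[F] F :=
        { toFun := fun x => Q (ev e (r x))
          map_add' := fun x y => by
            have hp : Q (ev e (r x) + ev e (r y)) = Q (ev e (r x)) + Q (ev e (r y)) + B (ev e (r x)) (ev e (r y)) :=
              QuadraticMap.map_add (⇑Q) _ _
            have hb : B (ev e (r x)) (ev e (r y)) = 0 := by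
              obtain ⟨z, hz⟩ := FiniteField.isSquare_of_char_two (ringChar.eq K 2) (r x * r y)
              have h1 : B (ev e (r x)) (ev e (r y)) = B e (ev e (r x * r y)) := by
                rw [hev e (r x), hsa, hevmul]
              rw [h1, hz, ← hevmul, ← hsa, ← hev]
              exact hz0 z
            rw [hradd, map_add, hp, hb, add_zero]
          map_smul' := fun c x => by
            obtain ⟨d, hd⟩ := FiniteField.isSquare_of_char_two (ringChar.eq F 2) c
            have h : r (c • x) = d • r x := hinj _ _ (by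
              rw [← hr, smul_mul_smul_comm, ← hd, ← hr])
            rw [h, map_smul, quad_smul, ← hd]
            rfl }
      obtain ⟨a, ha⟩ := hRsurj L
      refine ⟨a, fun x => ?_⟩
      rw [← hR, ha]
      show Q (ev e x) = Q (ev e (r (x * x)))
      rw [hinj (r (x * x)) x (hr (x * x)).symm]
    · obtain ⟨a, ha⟩ := hRsurj ((2 : F)⁻¹ • (B e).comp (ev e))
      refine ⟨a, fun x => ?_⟩
      rw [← hR, ha, LinearMap.smul_apply, LinearMap.comp_apply, ← hevmul, ← hsa, ← hev, quad_polar_self,
        smul_eq_mul, inv_mul_cancel_left₀ h2]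
  obtain ⟨a, ha⟩ := hquad e1
  obtain ⟨c, hc⟩ := hquad e2
  obtain ⟨β, hβ⟩ := hRsurj ((B e1).comp (ev e2))
  have hQ0 : ∀ p : K × K, Q (φ p) = θ (a * (p.1 * p.1) + β * (p.1 * p.2) + c * (p.2 * p.2)) := by
    intro p
    have hp : Q (ev e1 p.1 + ev e2 p.2) = Q (ev e1 p.1) + Q (ev e2 p.2) + B (ev e1 p.1) (ev e2 p.2) :=
      QuadraticMap.map_add (⇑Q) _ _
    have hb : B (ev e1 p.1) (ev e2 p.2) = θ (β * (p.1 * p.2)) := by
      rw [← hR, hβ, LinearMap.comp_apply, hev e1, hsa, hevmul]
    rw [hφ, hp, ha, hc, hb, map_add, map_add]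
    abel
  rcases hsel with hsel | hsel
  swap
  · -- two singular lines
    right
    have ha0 : a = 0 := by
      refine hRinj a fun y => ?_
      obtain ⟨m, n, rfl⟩ := hsq y
      rw [mul_sub, map_sub, ← ha, ← ha, hsel, hsel, sub_zero]
    have hβ0 : β ≠ 0 := fun h0 => he1 (hN.1 _ fun v => by
      obtain ⟨p, rfl⟩ := φ.surjective v
      show B e1 (φ p) = 0
      rw [hφ, map_add]
      have h1 : B e1 (ev e2 p.2) = 0 := by
        have h := LinearMap.congr_fun hβ p.2
        rw [h0, map_zero, LinearMap.zero_apply, LinearMap.comp_apply] at h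
        exact h.symm
      have h2 : B e1 (ev e1 p.1) = 0 := by
        have hone : ev e1 1 = e1 := by rw [hev, OneMemClass.coe_one, Matrix.one_mulVec]
        show Q (e1 + ev e1 p.1) - Q e1 - Q (ev e1 p.1) = 0
        conv_lhs => enter [1, 1, 2, 1]; rw [← hone]
        conv_lhs => enter [1, 2]; rw [← hone, hsel]
        rw [← map_add, hsel, hsel, sub_zero, sub_zero]
      rw [h1, h2, add_zero])
    let ψ1 : K →ₗ[F] VV := φ.toLinearMap.comp (LinearMap.inl F K K)
    let ψ2 : K →ₗ[F] VV := φ.toLinearMap.comp ((LinearMap.mulRight F (-c)).prod (LinearMap.mulRight F β))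
    have hψ1 : Function.Injective ψ1 := φ.injective.comp LinearMap.inl_injective
    have hψ2 : Function.Injective ψ2 := (injective_iff_map_eq_zero _).mpr fun z hz => by
      have h : (z * -c, z * β) = (0 : K × K) := φ.injective (hz.trans (map_zero φ).symm)
      exact (mul_eq_zero.mp (congrArg Prod.snd h : z * β = 0)).resolve_right hβ0
    set U := LinearMap.range ψ1 with hU
    set U₂ := LinearMap.range ψ2 with hU2
    have hmU : ∀ x y : K, φ (x, y) ∈ U ↔ y = 0 := fun x y => by
      refine ⟨?_, fun h => ⟨x, show φ (x, 0) = φ (x, y) by rw [h]⟩⟩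
      rintro ⟨z, hz⟩
      exact (congrArg Prod.snd (φ.injective hz : ((z, 0) : K × K) = (x, y))).symm
    have hmU2 : ∀ x y : K, φ (x, y) ∈ U₂ ↔ β * x + c * y = 0 := fun x y => by
      refine ⟨?_, fun h => ⟨y / β, ?_⟩⟩
      · rintro ⟨z, hz⟩
        have h : ((z * -c, z * β) : K × K) = (x, y) := φ.injective hz
        rw [Prod.mk.injEq] at h
        rw [← h.1, ← h.2]
        ring
      · show φ (y / β * -c, y / β * β) = φ (x, y)
        congr 1
        ext1 <;> dsimp only
        · field_simp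
          linear_combination -h
        · exact div_mul_cancel₀ y hβ0
    have hQU : ∀ u ∈ U, Q u = 0 := by
      rintro _ ⟨z, rfl⟩
      show Q (φ (z, 0)) = 0
      rw [hQ0, ha0]
      dsimp only
      rw [show 0 * (z * z) + β * (z * 0) + c * (0 * 0) = (0 : K) by ring, map_zero]
    have hQU2 : ∀ u ∈ U₂, Q u = 0 := by
      rintro _ ⟨z, rfl⟩
      show Q (φ (z * -c, z * β)) = 0
      rw [hQ0, ha0]
      dsimp only
      rw [show 0 * (z * -c * (z * -c)) + β * (z * -c * (z * β)) + c * (z * β * (z * β)) = (0 : K) by ring, map_zero]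
    have hinf : U ⊓ U₂ = ⊥ := by
      refine (Submodule.eq_bot_iff _).mpr fun u hu => ?_
      obtain ⟨⟨x, y⟩, rfl⟩ := φ.surjective u
      have hy := (hmU x y).mp hu.1
      have hx := (hmU2 x y).mp hu.2
      rw [hy, mul_zero, add_zero] at hx
      rw [hy, (mul_eq_zero.mp hx).resolve_left hβ0]
      exact map_zero φ
    have hd1 : Module.finrank F U = 5 := by rw [hU, LinearMap.finrank_range_of_inj hψ1, hrank]
    have hd2 : Module.finrank F U₂ = 5 := by rw [hU2, LinearMap.finrank_range_of_inj hψ2, hrank]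
    have hne : U ≠ U₂ := fun h => by
      rw [h, inf_idem] at hinf
      rw [hinf, finrank_bot] at hd2
      omega
    have hsup : U ⊔ U₂ = ⊤ := by
      refine Submodule.eq_top_of_finrank_eq ?_
      have h := Submodule.finrank_sup_add_finrank_inf_eq U U₂
      rw [hinf, finrank_bot, hd1, hd2] at h
      rw [Module.finrank_fin_fun]
      omega
    have hKU : ∀ (k : K) (V : Submodule F VV), V = U ∨ V = U₂ → ∀ u ∈ V, (k : MM) *ᵥ u ∈ V := by
      intro k V hV u hu
      obtain ⟨⟨x, y⟩, rfl⟩ := φ.surjective u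
      rw [hact]
      rcases hV with rfl | rfl
      · rw [hmU]
        rw [hmU] at hu
        show k * y = 0
        rw [hu, mul_zero]
      · rw [hmU2]
        rw [hmU2] at hu
        show β * (k * x) + c * (k * y) = 0
        linear_combination k * hu
    have hsing : ∀ V : Submodule F VV, (∀ u ∈ V, Q u = 0) → Module.finrank F V = 5 →
        (∀ (k : K), ∀ u ∈ V, (k : MM) *ᵥ u ∈ V) → V = U ∨ V = U₂ := by
      intro V hQV hdV hKV
      obtain ⟨u, hu, hu0⟩ := (Submodule.ne_bot_iff V).mp fun h => by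
        rw [h, finrank_bot] at hdV
        omega
      obtain ⟨⟨x, y⟩, rfl⟩ := φ.surjective u
      have hG : β * (x * y) + c * (y * y) = 0 := by
        refine hRinj _ fun z => ?_
        obtain ⟨m, n, rfl⟩ := hsq z
        have e : ∀ k : K, θ ((β * (x * y) + c * (y * y)) * (k * k)) = 0 := fun k => by
          have h := hQV _ (hKV k _ hu)
          rw [hact, hQ0, ha0] at h
          rw [← h]
          congr 1
          dsimp only
          ring
        rw [mul_sub, map_sub, e, e, sub_zero]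
      let ψ : K →ₗ[F] VV := φ.toLinearMap.comp ((LinearMap.mulRight F x).prod (LinearMap.mulRight F y))
      have hψ : Function.Injective ψ := (injective_iff_map_eq_zero _).mpr fun z hz => by
        have h : (z * x, z * y) = (0 : K × K) := φ.injective (hz.trans (map_zero φ).symm)
        by_contra hz0
        refine hu0 ?_
        rw [show x = 0 from (mul_eq_zero.mp (congrArg Prod.fst h : z * x = 0)).resolve_left hz0,
          show y = 0 from (mul_eq_zero.mp (congrArg Prod.snd h : z * y = 0)).resolve_left hz0]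
        exact map_zero φ
      have hdψ : Module.finrank F (LinearMap.range ψ) = 5 := by rw [LinearMap.finrank_range_of_inj hψ, hrank]
      have hVeq : LinearMap.range ψ = V := by
        refine Submodule.eq_of_le_of_finrank_eq ?_ (hdψ.trans hdV.symm)
        rintro _ ⟨z, rfl⟩
        have h := hKV z _ hu
        rw [hact] at h
        exact h
      by_cases hy : y = 0
      · left
        rw [← hVeq]
        refine Submodule.eq_of_le_of_finrank_eq ?_ (hdψ.trans hd1.symm)
        rintro _ ⟨z, rfl⟩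
        exact (hmU _ _).mpr (show z * y = 0 by rw [hy, mul_zero])
      · right
        rw [← hVeq]
        refine Submodule.eq_of_le_of_finrank_eq ?_ (hdψ.trans hd2.symm)
        rintro _ ⟨z, rfl⟩
        refine (hmU2 _ _).mpr ?_
        show β * (z * x) + c * (z * y) = 0
        refine (mul_eq_zero.mp (?_ : y * (β * (z * x) + c * (z * y)) = 0)).resolve_left hy
        linear_combination z * hG
    refine ⟨U, U₂, hQU, hQU2, hd1, hd2, hne, hinf, hsup, fun h hh => ?_⟩
    have hinjh : Function.Injective (Matrix.toLin' (h : MM)) := fun u v huv => by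
      have h' := congrArg (fun w => ((h⁻¹ : GL (Fin 10) F) : MM) *ᵥ w) huv
      simpa [Matrix.toLin'_apply, Matrix.mulVec_mulVec] using h'
    have him : ∀ V : Submodule F VV, V = U ∨ V = U₂ →
        V.map (Matrix.toLin' (h : MM)) = U ∨ V.map (Matrix.toLin' (h : MM)) = U₂ := by
      intro V hV
      refine hsing _ ?_ ?_ ?_
      · rintro _ ⟨u, hu, rfl⟩
        rw [Matrix.toLin'_apply, Orth.iso_quad (hiso h hh)]
        rcases hV with rfl | rfl
        exacts [hQU u hu, hQU2 u hu]
      · rw [← (Submodule.equivMapOfInjective _ hinjh V).finrank_eq]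
        rcases hV with rfl | rfl
        exacts [hd1, hd2]
      · rintro k _ ⟨u, hu, rfl⟩
        have hk : ((h⁻¹ : GL (Fin 10) F) : MM) * (k : MM) * (h : MM) ∈ K := by
          simpa using (hnor _ (H.inv_mem hh) (k : MM)).mp k.2
        refine ⟨_, hKU ⟨_, hk⟩ V hV u hu, ?_⟩
        simp only [Matrix.toLin'_apply, Matrix.mulVec_mulVec, ← mul_assoc, Units.mul_inv, one_mul]
    rcases him U (Or.inl rfl) with h1 | h1 <;> rcases him U₂ (Or.inr rfl) with h2 | h2
    · exact absurd (Submodule.map_injective_of_injective hinjh (h1.trans h2.symm)) hne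
    · exact Or.inl ⟨h1, h2⟩
    · exact Or.inr ⟨h1, h2⟩
    · exact absurd (Submodule.map_injective_of_injective hinjh (h1.trans h2.symm)) hne
  left
  -- anisotropy
  have hani : ∀ x y : K, a * (x * x) + β * (x * y) + c * (y * y) = 0 → x = 0 ∧ y = 0 := by
    intro x y h0
    by_contra hne
    have hnz : φ (x, y) ≠ 0 := fun h => by
      have h' : ((x, y) : K × K) = 0 := φ.injective (h.trans (map_zero φ).symm)
      exact hne ⟨congrArg Prod.fst h', congrArg Prod.snd h'⟩
    obtain ⟨z, hz⟩ := hsel _ hnz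
    refine hz ?_
    rw [hev, hact, hQ0]
    dsimp only
    rw [show a * (z * x * (z * x)) + β * (z * x * (z * y)) + c * (z * y * (z * y)) =
      (z * z) * (a * (x * x) + β * (x * y) + c * (y * y)) by ring, h0, mul_zero, map_zero]
  have ha0 : a ≠ 0 := fun h => one_ne_zero (hani 1 0 (by rw [h]; ring)).1
  obtain ⟨s, hs⟩ : ∃ s : K, a * s = β := ⟨a⁻¹ * β, mul_inv_cancel_left₀ ha0 β⟩
  obtain ⟨t, ht⟩ : ∃ t : K, a * t = c := ⟨a⁻¹ * c, mul_inv_cancel_left₀ ha0 c⟩
  have hQN : ∀ p : K × K, Q (φ p) = θ (a * (p.1 * p.1 + s * (p.1 * p.2) + t * (p.2 * p.2))) := fun p => by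
    rw [hQ0, ← hs, ← ht]
    congr 1
    ring
  have hN0 : ∀ x y : K, x * x + s * (x * y) + t * (y * y) = 0 → x = 0 ∧ y = 0 := fun x y h => hani x y (by
    rw [← hs, ← ht]; linear_combination a * h)
  have hdisc : 4 * t - s * s ≠ 0 := by
    intro h
    by_cases h2 : (2 : K) = 0
    · have hs0 : s = 0 := mul_self_eq_zero.mp (by linear_combination -h + 2 * t * h2)
      haveI : CharP K 2 := CharTwo.of_one_ne_zero_of_two_eq_zero one_ne_zero h2
      obtain ⟨z, hz⟩ := FiniteField.isSquare_of_char_two (ringChar.eq K 2) t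
      exact one_ne_zero (hN0 z 1 (by linear_combination z * hs0 + z * z * h2 + hz)).2
    · obtain ⟨z, hz⟩ : ∃ z : K, 2 * z = -s := ⟨2⁻¹ * -s, mul_inv_cancel_left₀ h2 _⟩
      refine one_ne_zero (hN0 z 1 (mul_left_cancel₀ (mul_ne_zero h2 h2) ?_)).2
      linear_combination (2 * z + s) * hz + h
  have hBN : ∀ p r : K × K, B (φ p) (φ r) =
      θ (a * (2 * (p.1 * r.1) + s * (p.1 * r.2 + p.2 * r.1) + 2 * t * (p.2 * r.2))) := fun p r => by
    show Q (φ p + φ r) - Q (φ p) - Q (φ r) = _
    rw [← map_add, hQN, hQN, hQN, ← map_sub, ← map_sub]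
    congr 1
    dsimp only [Prod.fst_add, Prod.snd_add]
    ring
  -- the generator
  let L0 : (K × K) →ₗ[F] (K × K) :=
    (-(LinearMap.mulLeft F t).comp (LinearMap.snd F K K)).prod
      (LinearMap.fst F K K + (LinearMap.mulLeft F s).comp (LinearMap.snd F K K))
  let Ω : MM := LinearMap.toMatrix' (φ.toLinearMap ∘ₗ L0 ∘ₗ φ.symm.toLinearMap)
  have hΩ : ∀ p : K × K, Ω *ᵥ φ p = φ (-(t * p.2), p.1 + s * p.2) := fun p => by
    rw [← Matrix.toLin'_apply Ω, Matrix.toLin'_toMatrix']
    show φ (L0 (φ.symm (φ p))) = _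
    rw [φ.symm_apply_apply]
    rfl
  let el : K → K → MM := fun x y => (x : MM) + (y : MM) * Ω
  have hel : ∀ (x y : K) (p : K × K),
      el x y *ᵥ φ p = φ (x * p.1 - y * (t * p.2), y * p.1 + (x + y * s) * p.2) := fun x y p => by
    show ((x : MM) + (y : MM) * Ω) *ᵥ φ p = _
    rw [Matrix.add_mulVec, ← Matrix.mulVec_mulVec, hΩ, hact, hact, ← map_add]
    congr 1
    ext1 <;> dsimp only [Prod.fst_add, Prod.snd_add] <;> ring
  have helK : ∀ (x y : K) (k : K), (k : MM) * el x y = el x y * (k : MM) := fun x y k => by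
    refine hext _ _ fun p => ?_
    rw [← Matrix.mulVec_mulVec, ← Matrix.mulVec_mulVec, hel, hact, hact, hel]
    congr 1
    ext1 <;> dsimp only <;> ring
  have hmul : ∀ x y x' y' : K,
      el x y * el x' y' = el (x * x' - t * (y * y')) (x * y' + y * x' + s * (y * y')) := fun x y x' y' => by
    refine hext _ _ fun p => ?_
    rw [← Matrix.mulVec_mulVec, hel, hel, hel]
    congr 1
    ext1 <;> dsimp only <;> ring
  have hadd : ∀ x y x' y' : K, el x y + el x' y' = el (x + x') (y + y') := fun x y x' y' => by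
    simp only [el, Subalgebra.coe_add, add_mul]
    abel
  have hel0 : ∀ x : K, el x 0 = (x : MM) := fun x => by
    simp only [el, ZeroMemClass.coe_zero, zero_mul, add_zero]
  let E : Subalgebra F MM :=
    { carrier := {M | ∃ x y : K, M = el x y}
      mul_mem' := fun {M N} hM hN => by
        obtain ⟨x, y, rfl⟩ := hM
        obtain ⟨x', y', rfl⟩ := hN
        exact ⟨_, _, hmul x y x' y'⟩
      one_mem' := ⟨1, 0, (hel0 1).symm⟩
      add_mem' := fun {M N} hM hN => by
        obtain ⟨x, y, rfl⟩ := hM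
        obtain ⟨x', y', rfl⟩ := hN
        exact ⟨_, _, hadd x y x' y'⟩
      zero_mem' := ⟨0, 0, (hel0 0).symm⟩
      algebraMap_mem' := fun r => ⟨algebraMap F K r, 0, by rw [hel0]; rfl⟩ }
  have hmem : ∀ M, M ∈ E ↔ ∃ x y : K, M = el x y := fun M => Iff.rfl
  have hinjel : ∀ x y : K, el x y = 0 → x = 0 ∧ y = 0 := fun x y h => by
    have h' := hel x y (1, 0)
    rw [h, Matrix.zero_mulVec] at h'
    have h'' := φ.injective (h'.symm.trans (map_zero φ).symm)
    have h1 : x * 1 - y * (t * 0) = 0 := congrArg Prod.fst h''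
    have h2 : y * 1 + (x + y * s) * 0 = 0 := congrArg Prod.snd h''
    constructor
    · linear_combination h1
    · linear_combination h2
  -- adjoints
  have hEadj : ∀ x y : K, ∀ u v, B (el x y *ᵥ u) v = B u (el (x + s * y) (-y) *ᵥ v) := fun x y u v => by
    obtain ⟨p, rfl⟩ := φ.surjective u
    obtain ⟨r, rfl⟩ := φ.surjective v
    rw [hel, hel, hBN, hBN]
    congr 1
    dsimp only
    ring
  -- recognition
  have hchar : ∀ M : MM, (∀ k : K, (k : MM) * M = M * (k : MM)) →
      (∃ μ ν : K, ∀ v, B (M *ᵥ v) v = Q ((μ : MM) *ᵥ v) - Q ((ν : MM) *ᵥ v)) → M ∈ E := by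
    intro M hMK ⟨μ, ν, hμν⟩
    set p1 := φ.symm (M *ᵥ φ (1, 0)) with hp1
    set p2 := φ.symm (M *ᵥ φ (0, 1)) with hp2
    have hM : ∀ q : K × K, M *ᵥ φ q = φ (q.1 * p1.1 + q.2 * p2.1, q.1 * p1.2 + q.2 * p2.2) := fun q => by
      have h1 : φ q = (q.1 : MM) *ᵥ φ (1, 0) + (q.2 : MM) *ᵥ φ (0, 1) := by
        rw [hact, hact, ← map_add]
        congr 1
        ext1 <;> simp
      rw [h1, Matrix.mulVec_add, Matrix.mulVec_mulVec, Matrix.mulVec_mulVec, ← hMK, ← hMK, ← Matrix.mulVec_mulVec,
        ← Matrix.mulVec_mulVec, ← φ.apply_symm_apply (M *ᵥ φ (1, 0)), ← φ.apply_symm_apply (M *ᵥ φ (0, 1)),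
        ← hp1, ← hp2, hact, hact, ← map_add]
      rfl
    set l := μ * μ - ν * ν with hl
    set A := 2 * p1.1 + s * p1.2 - l with hA
    set C := s * p2.1 + 2 * t * p2.2 - l * t with hC
    set D := 2 * p2.1 + s * p1.1 + s * p2.2 + 2 * t * p1.2 - l * s with hD
    have hG : ∀ q : K × K, θ (a * (A * (q.1 * q.1) + D * (q.1 * q.2) + C * (q.2 * q.2))) = 0 := fun q => by
      have h := hμν (φ q)
      rw [hM, hBN, hact, hact, hQN, hQN, ← map_sub, ← sub_eq_zero, ← map_sub] at h
      rw [← h]
      congr 1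
      rw [hA, hC, hD, hl]
      dsimp only
      ring
    have hz : ∀ X : K, (∀ x, θ (a * (X * (x * x))) = 0) → X = 0 := fun X hX => by
      refine (mul_eq_zero.mp (hRinj (a * X) fun y => ?_)).resolve_left ha0
      obtain ⟨m, n, rfl⟩ := hsq y
      rw [show a * X * (m * m - n * n) = a * (X * (m * m)) - a * (X * (n * n)) by ring, map_sub, hX, hX, sub_zero]
    have hA0 : A = 0 := hz A fun x => by
      have h := hG (x, 0)
      rw [← h]
      congr 1
      dsimp only
      ring
    have hC0 : C = 0 := hz C fun x => by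
      have h := hG (0, x)
      rw [← h]
      congr 1
      dsimp only
      ring
    have hD0 : D = 0 := by
      refine (mul_eq_zero.mp (hRinj (a * D) fun y => ?_)).resolve_left ha0
      have h := hG (y, 1)
      rw [← h, hA0, hC0]
      congr 1
      dsimp only
      ring
    have hU : p2.1 + t * p1.2 = 0 := by
      refine (mul_eq_zero.mp (?_ : (4 * t - s * s) * (p2.1 + t * p1.2) = 0)).resolve_left hdisc
      linear_combination (2 * t) * (hD0) + (-s) * hC0 + (t * s - 2 * t * s) * hA0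
    have hW : p2.2 - p1.1 - s * p1.2 = 0 := by
      refine (mul_eq_zero.mp (?_ : (4 * t - s * s) * (p2.2 - p1.1 - s * p1.2) = 0)).resolve_left hdisc
      linear_combination 2 * hC0 + (-s) * hD0 + (s * s - 2 * t) * hA0
    refine ⟨p1.1, p1.2, hext _ _ fun q => ?_⟩
    rw [hM, hel]
    congr 1
    ext1 <;> dsimp only
    · linear_combination q.2 * hU
    · linear_combination q.2 * hW
  have hconj : ∀ h ∈ H, ∀ M ∈ E, (h : MM) * M * ((h⁻¹ : GL (Fin 10) F) : MM) ∈ E := by
    intro h hh M hM
    obtain ⟨x, y, rfl⟩ := (hmem M).mp hM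
    refine hchar _ (fun k => ?_) ?_
    · have hk : ((h⁻¹ : GL (Fin 10) F) : MM) * (k : MM) * (h : MM) ∈ K := by
        simpa using (hnor _ (H.inv_mem hh) (k : MM)).mp k.2
      have h1 := helK x y ⟨_, hk⟩
      have h2 := congrArg (fun X => (h : MM) * X * ((h⁻¹ : GL (Fin 10) F) : MM)) h1
      simpa [mul_assoc] using h2
    · obtain ⟨μ, ν, hμν⟩ := hsq (2 * x + y * s)
      refine ⟨⟨_, (hnor h hh (μ : MM)).mp μ.2⟩, ⟨_, (hnor h hh (ν : MM)).mp ν.2⟩, fun v => ?_⟩
      set w := ((h⁻¹ : GL (Fin 10) F) : MM) *ᵥ v with hw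
      have hv : v = (h : MM) *ᵥ w := by
        rw [hw, Matrix.mulVec_mulVec, ← Units.val_mul, mul_inv_cancel, Units.val_one, Matrix.one_mulVec]
      have hc : ∀ X : MM, ((h : MM) * X * ((h⁻¹ : GL (Fin 10) F) : MM)) *ᵥ v = (h : MM) *ᵥ (X *ᵥ w) := fun X => by
        rw [hw, Matrix.mulVec_mulVec, Matrix.mulVec_mulVec, mul_assoc]
      show B _ v = Q _ - Q _
      rw [hc, hc, hc, Orth.iso_quad (hiso h hh), Orth.iso_quad (hiso h hh), hv, Orth.iso_polar (hiso h hh)]
      obtain ⟨q, hq⟩ := φ.surjective w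
      rw [← hq, hel, hBN, hact, hact, hQN, hQN, ← map_sub]
      congr 1
      dsimp only
      linear_combination -(a * (q.1 * q.1 + s * (q.1 * q.2) + t * (q.2 * q.2))) * hμν
  refine ⟨E, ⟨?_, ?_, ?_⟩, ?_, fun h hh k => ⟨fun hk => hconj h hh k hk, fun hk => ?_⟩⟩
  · intro M hM N hN
    obtain ⟨x, y, rfl⟩ := (hmem M).mp hM
    obtain ⟨x', y', rfl⟩ := (hmem N).mp hN
    rw [hmul, hmul]
    congr 1 <;> ring
  · intro M hM hM0
    obtain ⟨x, y, rfl⟩ := (hmem M).mp hM
    have hn : x * x + s * (x * y) + t * (y * y) ≠ 0 := fun h => by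
      obtain ⟨hx, hy⟩ := hN0 x y h
      exact hM0 (by rw [hx, hy, hel0]; rfl)
    obtain ⟨z, hz⟩ : ∃ z, (x * x + s * (x * y) + t * (y * y)) * z = 1 := ⟨_, mul_inv_cancel₀ hn⟩
    refine ⟨el ((x + s * y) * z) (-(y * z)), (hmem _).mpr ⟨_, _, rfl⟩, ?_⟩
    rw [hmul, show x * ((x + s * y) * z) - t * (y * -(y * z)) = 1 by rw [← hz]; ring,
      show x * -(y * z) + y * ((x + s * y) * z) + s * (y * -(y * z)) = 0 by ring, hel0]
    rfl
  · let g : (K × K) →ₗ[F] E :=
      { toFun := fun p => ⟨el p.1 p.2, (hmem _).mpr ⟨_, _, rfl⟩⟩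
        map_add' := fun p r => Subtype.ext (hadd p.1 p.2 r.1 r.2).symm
        map_smul' := fun r p => Subtype.ext (by
          show el (r • p.1) (r • p.2) = r • el p.1 p.2
          simp only [el, SetLike.val_smul, Matrix.smul_mul, smul_add]) }
    have hg : Function.Bijective g := by
      refine ⟨(injective_iff_map_eq_zero _).mpr fun p hp => ?_, fun M => ?_⟩
      · obtain ⟨h1, h2⟩ := hinjel p.1 p.2 (congrArg Subtype.val hp)
        exact Prod.ext h1 h2
      · obtain ⟨x, y, hxy⟩ := (hmem _).mp M.2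
        exact ⟨(x, y), Subtype.ext hxy.symm⟩
    rw [← (LinearEquiv.ofBijective g hg).finrank_eq, Module.finrank_prod, hrank]
  · intro M hM
    obtain ⟨x, y, rfl⟩ := (hmem M).mp hM
    exact ⟨el (x + s * y) (-y), (hmem _).mpr ⟨_, _, rfl⟩, hEadj x y⟩
  · have h1 := hconj h⁻¹ (H.inv_mem hh) _ hk
    simpa [mul_assoc] using h1

end Cfsg.Agent.Lib.MinusTen
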