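import Cfsg.Agent.Lib.MinusTen.Defs
import Cfsg.Agent.Lib.MinusTen.FieldFiveAny

/-!
helper20: a self-adjoint field of degree five in dimension ten extends to a field of degree ten for a form of minus
type.
-/

set_option autoImplicit false
set_option linter.unusedSectionVars false
set_option linter.style.haveILetI false

namespace Cfsg.Agent.Lib.MinusTen

open Matrix Module Cfsg.Geo
open Cfsg.Agent.Lib.MaxSub
open Cfsg.Agent.Lib.Geometry (quad_polar_comm quad_polar_self quad_smul)
open Cfsg.Agent.Lib.OrthNine.Adjoint (Adj)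
open QuadraticMap (polarBilin)
open scoped MatrixGroups Matrix

attribute [-simp] QuadraticMap.polarBilin_apply_apply

variable {F : Type*} [Field F] [Fintype F] {Q : QuadraticForm F (Fin 10 → F)}

local notation "MM" => Matrix (Fin 10) (Fin 10) F
local notation "VV" => (Fin 10 → F)

/-- A field of degree five in dimension ten, adjoint closed for a form of minus type, lies in one of degree ten. -/
theorem ten_of_five (hQ : Minus Q) {H : Subgroup (Matrix.GeneralLinearGroup (Fin 10) F)}
    (hiso : ∀ h ∈ H, h ∈ Cfsg.isometryGroup F ⇑Q) {K : Subalgebra F (Matrix (Fin 10) (Fin 10) F)}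
    (hK : IsFieldSubalgebra 5 K) (hadj : IsAdjointClosedFor (QuadraticMap.polar ⇑Q) K)
    (hnor : ∀ h ∈ H, h ∈ subalgebraNormalizer K) :
    ∃ E : Subalgebra F (Matrix (Fin 10) (Fin 10) F), IsFieldSubalgebra 10 E ∧
      IsAdjointClosedFor (QuadraticMap.polar ⇑Q) E ∧ ∀ h ∈ H, h ∈ subalgebraNormalizer E := by
  rcases ten_of_five_any hQ.nd hiso hK hadj hnor with h | ⟨U, U₂, hU, -, hd, -⟩
  · exact h
  · exact (hQ.no_ts_five hU hd.ge).elim

end Cfsg.Agent.Lib.MinusTen
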