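import Cfsg.Agent.Lib.MinusTen.FieldTwo
import Cfsg.Agent.Lib.MinusTen.FieldFive

/-!
helper20: a maximal subgroup of `Ω₁₀⁻(q)` normalising a field of matrices.
-/

set_option autoImplicit false
set_option linter.unusedSectionVars false
set_option linter.style.haveILetI false

namespace Cfsg.Agent.Lib.MinusTen

open Matrix Module Cfsg.Geo
open Cfsg.Agent.Lib.MaxSub
open Cfsg.Agent.Lib.OrthNine.Adjoint (Adj)
open QuadraticMap (polarBilin)
open scoped MatrixGroups Matrix

attribute [-simp] QuadraticMap.polarBilin_apply_apply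

variable {F : Type*} [Field F] [Fintype F] {Q : QuadraticForm F (Fin 10 → F)}

local notation "MM" => Matrix (Fin 10) (Fin 10) F

/-- The quadratic subfield of an adjoint closed field of even degree is adjoint closed. -/
theorem exists_quadratic_subfield (hN : (polarBilin Q).Nondegenerate) {r : ℕ} (hr : 0 < r) (hsr : 2 ∣ r)
    {K : Subalgebra F (Matrix (Fin 10) (Fin 10) F)} (hK : IsFieldSubalgebra r K)
    (hadj : IsAdjointClosedFor (QuadraticMap.polar ⇑Q) K) :
    ∃ L : Subalgebra F (Matrix (Fin 10) (Fin 10) F), IsFieldSubalgebra 2 L ∧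
      IsAdjointClosedFor (QuadraticMap.polar ⇑Q) L ∧ subalgebraNormalizer K ≤ subalgebraNormalizer L := by
  classical
  haveI : Finite K := inferInstance
  letI : _root_.Field K := (field_isField hK).toField
  set q := Fintype.card F with hq
  have hq1 : 1 < q := Fintype.one_lt_card
  have hcardK : Nat.card K = q ^ r := by
    rw [Module.natCard_eq_pow_finrank (K := F), hK.finrank_eq, Nat.card_eq_fintype_card]
  obtain ⟨p, hp⟩ := CharP.exists F
  haveI : CharP K p := charP_of_injective_algebraMap (algebraMap F K).injective p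
  obtain ⟨a, hpp, ha⟩ := FiniteField.card F p
  haveI : Fact p.Prime := ⟨hpp⟩
  set m := q ^ 2 with hm
  have hm0 : 0 < m := pow_pos (by omega) 2
  have hmp : m = p ^ ((a : ℕ) * 2) := by rw [hm, hq, ha, pow_mul]
  let E : Subalgebra F K :=
    { carrier := {x | x ^ m = x}
      mul_mem' := fun {x y} hx hy => by
        simp only [Set.mem_setOf_eq] at hx hy ⊢; rw [mul_pow, hx, hy]
      one_mem' := one_pow m
      add_mem' := fun {x y} hx hy => by
        simp only [Set.mem_setOf_eq] at hx hy ⊢
        rw [hmp, add_pow_char_pow, ← hmp, hx, hy]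
      zero_mem' := zero_pow hm0.ne'
      algebraMap_mem' := fun c => by
        simp only [Set.mem_setOf_eq]
        rw [← map_pow, hm, hq, FiniteField.pow_card_pow] }
  have hcardE : Nat.card E = m := by
    have hset : (E : Set K) = insert 0 (Units.val '' ((powMonoidHom (m - 1) : Kˣ →* Kˣ).ker : Set Kˣ)) := by
      ext x
      show x ^ m = x ↔ _
      rw [Set.mem_insert_iff, Set.mem_image]
      constructor
      · intro hx
        by_cases h0 : x = 0
        · exact Or.inl h0
        · refine Or.inr ⟨Units.mk0 x h0, ?_, rfl⟩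
          rw [SetLike.mem_coe, MonoidHom.mem_ker, powMonoidHom_apply]
          refine Units.ext (mul_left_cancel₀ h0 ?_)
          rw [Units.val_pow_eq_pow_val, Units.val_mk0, Units.val_one, ← pow_succ', mul_one,
            Nat.sub_add_cancel hm0, hx]
      · rintro (rfl | ⟨u, hu, rfl⟩)
        · exact zero_pow hm0.ne'
        · rw [SetLike.mem_coe, MonoidHom.mem_ker, powMonoidHom_apply] at hu
          have h := congrArg Units.val hu
          rw [Units.val_pow_eq_pow_val, Units.val_one] at h
          conv_lhs => rw [← Nat.sub_add_cancel hm0, pow_succ', h, mul_one]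
    have hnot : (0 : K) ∉ Units.val '' ((powMonoidHom (m - 1) : Kˣ →* Kˣ).ker : Set Kˣ) := by
      rintro ⟨u, -, hu⟩
      exact u.ne_zero hu
    have h : Nat.card E = (E : Set K).ncard := (Nat.card_coe_set_eq _)
    rw [h, hset, Set.ncard_insert_of_notMem hnot (Set.toFinite _), Set.ncard_image_of_injective _ Units.val_injective,
      ← Nat.card_coe_set_eq, SetLike.coe_sort_coe, IsCyclic.card_powMonoidHom_ker]
    rw [Nat.card_units, hcardK, Nat.gcd_eq_right (by rw [hm]; exact Nat.pow_sub_one_dvd_pow_sub_one q hsr)]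
    omega
  have hdimE : Module.finrank F E = 2 := by
    have h : m = q ^ Module.finrank F E := by
      rw [← hcardE, Module.natCard_eq_pow_finrank (K := F), Nat.card_eq_fintype_card]
    exact (Nat.pow_right_injective hq1 h).symm
  have hmem : ∀ x : MM, x ∈ E.map K.val ↔ x ∈ K ∧ x ^ m = x := by
    intro x
    rw [Subalgebra.mem_map]
    constructor
    · rintro ⟨y, hy, rfl⟩
      exact ⟨y.2, by have h := congrArg Subtype.val (show y ^ m = y from hy); simpa using h⟩
    · rintro ⟨hxK, hx⟩
      exact ⟨⟨x, hxK⟩, Subtype.ext (by simpa using hx), rfl⟩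
  refine ⟨E.map K.val, ⟨?_, ?_, ?_⟩, ?_, ?_⟩
  · exact fun x hx y hy => hK.comm x ((hmem x).1 hx).1 y ((hmem y).1 hy).1
  · rintro x ⟨z, hz, rfl⟩ hx0
    have hz0 : z ≠ 0 := fun h => hx0 (by rw [h]; rfl)
    exact ⟨((z⁻¹ : K) : MM), ⟨z⁻¹, show z⁻¹ ^ m = z⁻¹ by rw [inv_pow, show z ^ m = z from hz], rfl⟩,
      congrArg Subtype.val (mul_inv_cancel₀ hz0)⟩
  · rw [← hdimE]
    exact ((Subalgebra.equivMapOfInjective E K.val Subtype.val_injective).toLinearEquiv.finrank_eq).symm
  · intro x hx
    obtain ⟨hxK, hxm⟩ := (hmem x).1 hx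
    obtain ⟨x', hx', h⟩ := hadj x hxK
    have hpow : ∀ n : ℕ, Adj Q (x ^ n) (x' ^ n) := by
      intro n
      induction n with
      | zero =>
        rw [pow_zero, pow_zero]
        exact OrthNine.Adjoint.adj_one
      | succ n ih =>
        have h1 : Adj Q (x ^ n * x) (x' * x' ^ n) := Adj.mul ih h
        rwa [← pow_succ, ← pow_succ'] at h1
    have hh := hpow m
    rw [hxm] at hh
    exact ⟨x', (hmem x').2 ⟨hx', hh.unique hN h⟩, h⟩
  · intro g hg k
    rw [hmem, hmem, ← hg k, Units.conj_pow]
    refine and_congr_right fun _ => ⟨fun h => by rw [h], fun h => ?_⟩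
    have h2 := congrArg (fun M => ((g⁻¹ : GL (Fin 10) F) : MM) * M * (g : MM)) h
    simpa [mul_assoc] using h2

/-- A maximal subgroup which is irreducible and normalises a field of matrices. -/
theorem field_cases (hQ : Minus Q) {H : Subgroup (Matrix.GeneralLinearGroup (Fin 10) F)}
    (hH : IsMaximalIn (omegaGL ⇑Q) H) (hirr : ActsIrreducibly (matrixSet H)) {r : ℕ}
    {K : Subalgebra F (Matrix (Fin 10) (Fin 10) F)} (hK : IsFieldSubalgebra r K) (h1 : 1 < r) (hr : r ∣ 10)
    (hadj : IsAdjointClosedFor (QuadraticMap.polar ⇑Q) K) (hnor : ∀ h ∈ H, h ∈ subalgebraNormalizer K) :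
    Cases Q H := by
  have hiso : ∀ h ∈ H, h ∈ Cfsg.isometryGroup F ⇑Q := fun h hh => Orth.omegaGL_le_isometry (hH.1.le hh)
  by_cases h2 : 2 ∣ r
  · obtain ⟨L, hL, hLa, hn⟩ := exists_quadratic_subfield hQ.nd (by omega) h2 hK hadj
    exact two_cases hQ hH hirr hL hLa fun h hh => hn (hnor h hh)
  · obtain rfl : r = 5 := by
      have := Nat.le_of_dvd (by norm_num) hr
      interval_cases r <;> omega
    obtain ⟨E, hE, hEa, hEn⟩ := ten_of_five hQ hiso hK hadj hnor
    obtain ⟨L, hL, hLa, hn⟩ := exists_quadratic_subfield hQ.nd (by norm_num) (by norm_num) hE hEa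
    exact two_cases hQ hH hirr hL hLa fun h hh => hn (hEn h hh)

end Cfsg.Agent.Lib.MinusTen
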