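import Cfsg.Agent.Lib.MinusTen.Defs
import Cfsg.Agent.Lib.OrthAny.Proper
import Cfsg.Agent.Lib.OrthAny.Orbit

/-!
helper7: `Ω₁₀⁻(q)` lies in none of the field, decomposition and subfield stabilisers.
-/

set_option autoImplicit false

namespace Cfsg.Agent.Lib.MinusTen

open Matrix
open scoped MatrixGroups

variable {F : Type*} [Field F] [Fintype F] {Q : QuadraticForm F (Fin 10 → F)}

theorem not_le_subalgebraNormalizer (hQ : Minus Q) {r : ℕ} (hr : 2 ≤ r)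
    {K : Subalgebra F (Matrix (Fin 10) (Fin 10) F)} (hK : Cfsg.Geo.IsFieldSubalgebra r K) :
    ¬ Cfsg.Geo.omegaGL ⇑Q ≤ Cfsg.Geo.subalgebraNormalizer K :=
  OrthAny.not_le_subalgebraNormalizer hr hQ.nd (by simp) hK

theorem not_le_decompositionStabilizer (hQ : Minus Q) {t k : ℕ} {D : Fin t → Submodule F (Fin 10 → F)}
    (hD : Cfsg.Geo.IsMDecomposition k D) : ¬ Cfsg.Geo.omegaGL ⇑Q ≤ Cfsg.Geo.decompositionStabilizer D :=
  OrthAny.not_le_decompositionStabilizer hQ.nd (by simp) hD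

theorem not_le_subfieldSubgroup (hQ : Minus Q) {F₀ : Subfield F} (h : F₀ ≠ ⊤) (P : GL (Fin 10) F) :
    ¬ Cfsg.Geo.omegaGL ⇑Q ≤ Cfsg.Geo.subfieldSubgroup F₀ P :=
  OrthAny.not_le_subfieldSubgroup hQ.nd (by simp) h P

end Cfsg.Agent.Lib.MinusTen
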