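import Cfsg.Agent.Lib.MinusTen.Defs
import Cfsg.Agent.Lib.MinusTen.Proper
import Cfsg.Agent.Lib.OrthNine.Adjoint

/-!
helper20: quadratic fields of matrices normalised by a maximal subgroup of `Ω₁₀⁻(q)`.
-/

set_option autoImplicit false
set_option linter.unusedSectionVars false
set_option linter.style.haveILetI false

namespace Cfsg.Agent.Lib.MinusTen

open Matrix Module Cfsg.Geo
open Cfsg.Agent.Lib.MaxSub
open Cfsg.Agent.Lib.Geometry (quad_polar_comm quad_polar_self quad_smul)
open Cfsg.Agent.Lib.OrthNine.Adjoint (Adj)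
open QuadraticMap (polarBilin)
open scoped MatrixGroups Matrix

attribute [-simp] QuadraticMap.polarBilin_apply_apply

variable {F : Type*} [Field F] [Fintype F] {Q : QuadraticForm F (Fin 10 → F)}

local notation "MM" => Matrix (Fin 10) (Fin 10) F
local notation "VV" => (Fin 10 → F)

theorem field_isField {r : ℕ} {K : Subalgebra F (Matrix (Fin 10) (Fin 10) F)} (hK : IsFieldSubalgebra r K) :
    IsField K :=
  ⟨⟨0, 1, fun h => zero_ne_one (α := MM) (congrArg Subtype.val h)⟩,
    fun x y => Subtype.ext (hK.comm x x.2 y y.2), fun {x} hx => by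
      obtain ⟨y, hy, hxy⟩ := hK.inv x x.2 fun h => hx (Subtype.ext h)
      exact ⟨⟨y, hy⟩, Subtype.ext hxy⟩⟩

theorem two_zero_of_even (h : ¬ Odd (Fintype.card F)) : (2 : F) = 0 := by
  have hc := FiniteField.even_card_iff_char_two.mpr (Nat.even_iff.mp (Nat.not_odd_iff_even.mp h))
  haveI := ringChar.of_eq hc
  exact CharTwo.two_eq_zero

/-- A generator of a quadratic field of matrices. -/
theorem field_gen {K : Subalgebra F (Matrix (Fin 10) (Fin 10) F)} (hK : IsFieldSubalgebra 2 K) :
    ∃ (ω : Matrix (Fin 10) (Fin 10) F) (s t : F), ω ∈ K ∧ ω * ω = s • ω + t • (1 : Matrix (Fin 10) (Fin 10) F) ∧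
      (∀ x : F, x * x ≠ s * x + t) ∧
      ∀ k ∈ K, ∃ a b : F, k = a • (1 : Matrix (Fin 10) (Fin 10) F) + b • ω := by
  obtain ⟨ω, hω, hnot⟩ : ∃ ω ∈ K, ∀ a : F, ω ≠ a • 1 := by
    by_contra hc
    push Not at hc
    have hsub : Subalgebra.toSubmodule K ≤ F ∙ (1 : MM) := fun k hk =>
      Submodule.mem_span_singleton.mpr (let ⟨a, ha⟩ := hc k hk; ⟨a, ha.symm⟩)
    have h2 := Submodule.finrank_mono hsub
    have h1 : Module.finrank F (F ∙ (1 : MM)) ≤ 1 := by simpa using finrank_span_le_card (R := F) ({1} : Set MM)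
    rw [Subalgebra.finrank_toSubmodule, hK.finrank_eq] at h2
    omega
  have hli : LinearIndependent F ![(1 : MM), ω] := by
    rw [LinearIndependent.pair_iff' one_ne_zero]
    exact fun a h => hnot a h.symm
  have hspan : Submodule.span F {(1 : MM), ω} = Subalgebra.toSubmodule K := by
    refine Submodule.eq_of_le_of_finrank_eq (Submodule.span_le.mpr ?_) ?_
    · rintro x (rfl | rfl)
      exacts [K.one_mem, hω]
    · rw [Subalgebra.finrank_toSubmodule, hK.finrank_eq]
      have h := finrank_span_eq_card hli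
      rw [Matrix.range_cons, Matrix.range_cons, Matrix.range_empty, Set.union_empty, Set.singleton_union,
        Fintype.card_fin] at h
      exact h
  have hall : ∀ k ∈ K, ∃ a b : F, k = a • (1 : MM) + b • ω := fun k hk => by
    have h : k ∈ Subalgebra.toSubmodule K := hk
    rw [← hspan, Submodule.mem_span_pair] at h
    obtain ⟨a, b, h⟩ := h
    exact ⟨a, b, h.symm⟩
  obtain ⟨t, s, hts⟩ := hall _ (K.mul_mem hω hω)
  refine ⟨ω, s, t, hω, by rw [hts, add_comm], fun x hx => ?_, hall⟩
  have hz : (ω - x • (1 : MM)) * (ω - (s - x) • (1 : MM)) = 0 := by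
    rw [sub_mul, mul_sub, mul_sub, hts]
    simp only [Matrix.smul_mul, Matrix.mul_smul, mul_one, one_mul, smul_smul]
    rw [show t = x * x - s * x by linear_combination -hx]
    module
  by_cases h1 : ω - x • (1 : MM) = 0
  · exact hnot x (sub_eq_zero.mp h1)
  obtain ⟨y, hy, hxy⟩ := hK.inv _ (K.sub_mem hω (K.smul_mem K.one_mem x)) h1
  refine hnot (s - x) (sub_eq_zero.mp ?_)
  have h := congrArg (y * ·) hz
  simp only [← mul_assoc, mul_zero] at h
  rwa [hK.comm y hy _ (K.sub_mem hω (K.smul_mem K.one_mem x)), hxy, one_mul] at h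

/-- A symmetric alternating invariant quadratic field forces dimension divisible by four. -/
theorem four_dvd_of_selfAdjoint (B : (Fin 10 → F) →ₗ[F] (Fin 10 → F) →ₗ[F] F) (hskew : ∀ u v, B u v = - B v u)
    (z1 : ∀ x, B x x = 0) {ω : Matrix (Fin 10) (Fin 10) F} {s t : F}
    (hsq : ω * ω = s • ω + t • (1 : Matrix (Fin 10) (Fin 10) F)) (hroot : ∀ x : F, x * x ≠ s * x + t)
    (hsa : ∀ u v : Fin 10 → F, B (ω *ᵥ u) v = B u (ω *ᵥ v)) (z2 : ∀ v : Fin 10 → F, B (ω *ᵥ v) v = 0) :
    ∀ W : Submodule F (Fin 10 → F), (∀ x ∈ W, ω *ᵥ x ∈ W) → (∀ x ∈ W, (∀ y ∈ W, B y x = 0) → x = 0) →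
      4 ∣ Module.finrank F W := by
  intro W
  induction hW : Module.finrank F W using Nat.strong_induction_on generalizing W with
  | _ n ih =>
    intro hinv hnd
    by_cases hn : n = 0
    · exact hn ▸ dvd_zero 4
    have hsqv : ∀ x : VV, ω *ᵥ (ω *ᵥ x) = s • ω *ᵥ x + t • x := fun x => by
      rw [Matrix.mulVec_mulVec, hsq, Matrix.add_mulVec, Matrix.smul_mulVec, Matrix.smul_mulVec, Matrix.one_mulVec]
    obtain ⟨v, hv, hv0⟩ := (Submodule.ne_bot_iff W).mp fun h => hn (by rw [← hW, h, finrank_bot])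
    obtain ⟨y₀, hy₀, hyv⟩ : ∃ y ∈ W, B y v ≠ 0 := by
      by_contra hc
      push Not at hc
      exact hv0 (hnd v hv hc)
    obtain ⟨y, hy, hwv⟩ : ∃ y ∈ W, B y v = -1 := ⟨(- (B y₀ v)⁻¹) • y₀, W.smul_mem _ hy₀, by
      rw [map_smul, LinearMap.smul_apply, smul_eq_mul, neg_mul, inv_mul_cancel₀ hyv]⟩
    have hvy : B v y = 1 := by rw [hskew, hwv, neg_neg]
    set a := B (ω *ᵥ v) y with ha
    have e1 : B v (ω *ᵥ y) = a := (hsa v y).symm
    have e2 : B (ω *ᵥ v) (ω *ᵥ y) = t + s * a := by
      rw [← hsa, hsqv]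
      simp only [map_add, map_smul, LinearMap.add_apply, LinearMap.smul_apply, hvy, ← ha, smul_eq_mul]
      ring
    have hd : t + s * a - a * a ≠ 0 := fun h => hroot a (by linear_combination -h)
    have z3 : ∀ x, B x (ω *ᵥ x) = 0 := fun x => by rw [← hsa, z2]
    let φ : VV →ₗ[F] Fin 4 → F := LinearMap.pi ![B v, B (ω *ᵥ v), B y, B (ω *ᵥ y)]
    let ψ : W →ₗ[F] Fin 4 → F := φ.comp W.subtype
    have f1 : φ v = ![0, 0, -1, -a] := by
      funext i
      fin_cases i
      · exact z1 v
      · exact z2 v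
      · exact hwv
      · show B (ω *ᵥ y) v = -a
        rw [hskew, e1]
    have f2 : φ (ω *ᵥ v) = ![0, 0, -a, -(t + s * a)] := by
      funext i
      fin_cases i
      · exact z3 v
      · exact z1 _
      · show B y (ω *ᵥ v) = -a
        rw [hskew]
      · show B (ω *ᵥ y) (ω *ᵥ v) = -(t + s * a)
        rw [hskew, e2]
    have f3 : φ y = ![1, a, 0, 0] := by
      funext i
      fin_cases i
      · exact hvy
      · rfl
      · exact z1 y
      · exact z2 y
    have f4 : φ (ω *ᵥ y) = ![a, t + s * a, 0, 0] := by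
      funext i
      fin_cases i
      · exact e1
      · exact e2
      · exact z3 y
      · exact z1 _
    have hsurj : ∀ c : Fin 4 → F, ∃ α β γ δ : F, φ (α • v + β • ω *ᵥ v + γ • y + δ • ω *ᵥ y) = c := by
      intro c
      obtain ⟨e, he⟩ : ∃ e : F, (t + s * a - a * a) * e = 1 := ⟨_, mul_inv_cancel₀ hd⟩
      refine ⟨-((t + s * a) * c 2 - a * c 3) * e, -(c 3 - a * c 2) * e,
        ((t + s * a) * c 0 - a * c 1) * e, (c 1 - a * c 0) * e, ?_⟩
      simp only [map_add, map_smul, f1, f2, f3, f4]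
      funext i
      fin_cases i
      · simp; linear_combination c 0 * he
      · simp; linear_combination c 1 * he
      · simp; linear_combination c 2 * he
      · simp; linear_combination c 3 * he
    have hmemU : ∀ α β γ δ : F, α • v + β • ω *ᵥ v + γ • y + δ • ω *ᵥ y ∈ W := fun α β γ δ =>
      W.add_mem (W.add_mem (W.add_mem (W.smul_mem _ hv) (W.smul_mem _ (hinv v hv))) (W.smul_mem _ hy))
        (W.smul_mem _ (hinv y hy))
    have hψ : LinearMap.range ψ = ⊤ := by
      refine LinearMap.range_eq_top.mpr fun c => ?_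
      obtain ⟨α, β, γ, δ, h⟩ := hsurj c
      exact ⟨⟨_, hmemU α β γ δ⟩, h⟩
    let W' : Submodule F VV := W ⊓ LinearMap.ker φ
    have hrank : Module.finrank F W' + 4 = n := by
      have h := LinearMap.finrank_range_add_finrank_ker ψ
      rw [hψ, finrank_top, Module.finrank_fin_fun, hW] at h
      have hkk : Module.finrank F (LinearMap.ker ψ) = Module.finrank F W' := by
        have hmap : (LinearMap.ker ψ).map W.subtype = W' := by
          rw [LinearMap.ker_comp, Submodule.map_comap_eq, Submodule.range_subtype]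
        rw [← hmap]
        exact (Submodule.equivMapOfInjective _ Subtype.val_injective _).finrank_eq
      omega
    have hinv' : ∀ x ∈ W', ω *ᵥ x ∈ W' := by
      rintro x ⟨hxW, hx⟩
      refine ⟨hinv x hxW, ?_⟩
      rw [SetLike.mem_coe, LinearMap.mem_ker] at hx ⊢
      have p0 : B v x = 0 := congrFun hx 0
      have p1 : B (ω *ᵥ v) x = 0 := congrFun hx 1
      have p2 : B y x = 0 := congrFun hx 2
      have p3 : B (ω *ᵥ y) x = 0 := congrFun hx 3
      funext i
      fin_cases i
      · show B v (ω *ᵥ x) = 0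
        rw [← hsa, p1]
      · show B (ω *ᵥ v) (ω *ᵥ x) = 0
        rw [← hsa, hsqv, map_add, map_smul, map_smul, LinearMap.add_apply, LinearMap.smul_apply,
          LinearMap.smul_apply, p0, p1, smul_zero, smul_zero, add_zero]
      · show B y (ω *ᵥ x) = 0
        rw [← hsa, p3]
      · show B (ω *ᵥ y) (ω *ᵥ x) = 0
        rw [← hsa, hsqv, map_add, map_smul, map_smul, LinearMap.add_apply, LinearMap.smul_apply,
          LinearMap.smul_apply, p2, p3, smul_zero, smul_zero, add_zero]
    have hnd' : ∀ x ∈ W', (∀ z ∈ W', B z x = 0) → x = 0 := by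
      rintro x ⟨hxW, hx⟩ hperp
      refine hnd x hxW fun z hz => ?_
      obtain ⟨α, β, γ, δ, hc⟩ := hsurj (φ z)
      set u := α • v + β • ω *ᵥ v + γ • y + δ • ω *ᵥ y with hu
      have hzu : z - u ∈ W' := ⟨W.sub_mem hz (hmemU α β γ δ), by
        rw [SetLike.mem_coe, LinearMap.mem_ker, map_sub, hc, sub_self]⟩
      have hu0 : B u x = 0 := by
        rw [SetLike.mem_coe, LinearMap.mem_ker] at hx
        have p0 : B v x = 0 := congrFun hx 0
        have p1 : B (ω *ᵥ v) x = 0 := congrFun hx 1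
        have p2 : B y x = 0 := congrFun hx 2
        have p3 : B (ω *ᵥ y) x = 0 := congrFun hx 3
        simp only [hu, map_add, map_smul, LinearMap.add_apply, LinearMap.smul_apply, p0, p1, p2, p3, smul_zero,
          add_zero]
      have h := hperp _ hzu
      rw [map_sub, LinearMap.sub_apply, hu0, sub_zero] at h
      exact h
    have h4 := ih (Module.finrank F W') (by omega) W' rfl hinv' hnd'
    omega

variable {H : Subgroup (Matrix.GeneralLinearGroup (Fin 10) F)}

/-- An invariant semilinear functional of an irreducible group vanishes. -/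
theorem semilinear_zero (hirr : ActsIrreducibly (matrixSet H)) (D : (Fin 10 → F) → F)
    (hadd : ∀ u v, D (u + v) = D u + D v) (hsmul : ∀ c : F, ∀ v, D (c • v) = c * c * D v)
    (hinv : ∀ h ∈ H, ∀ v, D ((h : Matrix (Fin 10) (Fin 10) F) *ᵥ v) = D v) : ∀ v, D v = 0 := by
  let Z : Submodule F VV :=
    { carrier := {v | D v = 0}
      add_mem' := fun {u v} hu hv => by rw [Set.mem_setOf_eq, hadd, hu, hv, add_zero]
      zero_mem' := by
        have h := hsmul 0 0
        rw [zero_smul, mul_zero, zero_mul] at h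
        exact h
      smul_mem' := fun c v hv => by rw [Set.mem_setOf_eq, hsmul, hv, mul_zero] }
  have hne : Z ≠ ⊥ := by
    intro h0
    have hinj : Function.Injective D := fun x y hxy => by
      refine sub_eq_zero.mp ((Submodule.eq_bot_iff Z).mp h0 _ ?_)
      have h := hadd (x - y) y
      rw [sub_add_cancel, hxy] at h
      exact right_eq_add.mp h
    have h := Fintype.card_le_of_injective D hinj
    rw [Fintype.card_fun, Fintype.card_fin] at h
    have h1 : 1 < Fintype.card F := Fintype.one_lt_card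
    have h2 := Nat.pow_lt_pow_right h1 (show 1 < 10 by norm_num)
    rw [pow_one] at h2
    omega
  rcases (TwoPrimeDim.actsIrreducibly_iff H).mp hirr Z fun g hg w hw => (hinv g hg w).trans hw with h | h
  · exact absurd h hne
  · exact fun v => show v ∈ Z from h ▸ Submodule.mem_top

/-- A normalised adjoint closed field of degree two. -/
theorem two_cases (hQ : Minus Q) (hH : IsMaximalIn (omegaGL ⇑Q) H) (hirr : ActsIrreducibly (matrixSet H))
    {K : Subalgebra F (Matrix (Fin 10) (Fin 10) F)} (hK : IsFieldSubalgebra 2 K)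
    (hadj : IsAdjointClosedFor (QuadraticMap.polar ⇑Q) K) (hnor : ∀ h ∈ H, h ∈ subalgebraNormalizer K) :
    Cases Q H := by
  have heq : H = subalgebraNormalizer K ⊓ omegaGL ⇑Q :=
    PrimeDim.OrthProper.eq_inf_of_le hH (fun h hh => hnor h hh) (not_le_subalgebraNormalizer hQ le_rfl hK)
  obtain ⟨ω, s, t, hω, hsq, hroot, hall⟩ := field_gen hK
  have hsqv : ∀ x : VV, ω *ᵥ (ω *ᵥ x) = s • ω *ᵥ x + t • x := fun x => by
    rw [Matrix.mulVec_mulVec, hsq, Matrix.add_mulVec, Matrix.smul_mulVec, Matrix.smul_mulVec, Matrix.one_mulVec]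
  let B := polarBilin Q
  have hiso : ∀ h ∈ H, h ∈ Cfsg.isometryGroup F ⇑Q := fun h hh => Orth.omegaGL_le_isometry (hH.1.le hh)
  by_cases hsa : IsSelfAdjointFor (QuadraticMap.polar ⇑Q) K
  · by_cases hq : Odd (Fintype.card F)
    · exact Or.inr (Or.inr (Or.inr (Or.inr (Or.inr (Or.inr (Or.inr (Or.inr (Or.inr (Or.inr (Or.inl
        ⟨hq, K, hK, hsa, heq⟩))))))))))
    exfalso
    have h2 := two_zero_of_even hq
    have hself : ∀ x, B x x = 0 := fun x => by rw [quad_polar_self, h2, zero_mul]
    have hskew : ∀ u v, B u v = - B v u := fun u v => by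
      rw [quad_polar_comm Q v u, eq_neg_iff_add_eq_zero, ← two_mul, h2, zero_mul]
    have hz2 : ∀ v, B (ω *ᵥ v) v = 0 := by
      intro v
      letI : _root_.Field K := (field_isField hK).toField
      haveI : Finite K := Finite.of_injective (fun x : K => (x : MM)) Subtype.val_injective
      haveI : CharP F 2 := CharTwo.of_one_ne_zero_of_two_eq_zero one_ne_zero h2
      haveI : CharP K 2 := charP_of_injective_algebraMap (algebraMap F K).injective 2
      obtain ⟨z, hz⟩ := FiniteField.isSquare_of_char_two (ringChar.eq K 2) (⟨ω, hω⟩ : K)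
      have hks : ω = (z : MM) * z := congrArg Subtype.val hz
      have h := hsa _ z.2 ((z : MM) *ᵥ v) v
      rw [Matrix.mulVec_mulVec, ← hks] at h
      exact h.trans (hself _)
    have h4 := four_dvd_of_selfAdjoint B hskew hself hsq hroot (hsa ω hω) hz2 ⊤
      (fun x _ => trivial) fun x _ h => hQ.nd.2 x fun y => h y trivial
    rw [finrank_top, Module.finrank_fin_fun] at h4
    omega
  obtain ⟨ω', hω', hadjω⟩ := hadj ω hω
  have hB : ∀ u v, B (ω *ᵥ u) v = B u (ω' *ᵥ v) := hadjω
  have hne : ω' ≠ ω := fun h => hsa fun k hk u v => by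
    obtain ⟨a, b, rfl⟩ := hall k hk
    show B _ v = B u _
    have h1 := hB u v
    rw [h] at h1
    simp only [Matrix.add_mulVec, Matrix.smul_mulVec, Matrix.one_mulVec, map_add, map_smul, LinearMap.add_apply,
      LinearMap.smul_apply, h1]
  have hsq' : ω' * ω' = s • ω' + t • (1 : MM) := by
    have ha : Adj Q (ω * ω) (ω' * ω') := Adj.mul hB hB
    rw [hsq] at ha
    refine OrthNine.Adjoint.Adj.unique hQ.nd ha fun u v => ?_
    simp only [Matrix.add_mulVec, Matrix.smul_mulVec, Matrix.one_mulVec, map_add, map_smul, LinearMap.add_apply,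
      LinearMap.smul_apply]
    rw [← hB]
  have hroots : ∀ w ∈ K, w * w = s • w + t • (1 : MM) → w = ω ∨ w = s • (1 : MM) - ω := by
    intro w hw hwsq
    have hz : (w - ω) * (w - (s • (1 : MM) - ω)) = 0 := by
      have hc := hK.comm w hw ω hω
      simp only [sub_mul, mul_sub, Matrix.mul_smul, mul_one, hwsq, hsq, hc]
      module
    by_cases h0 : w - ω = 0
    · exact Or.inl (sub_eq_zero.mp h0)
    obtain ⟨y, hy, hxy⟩ := hK.inv _ (K.sub_mem hw hω) h0
    have h' := congrArg (y * ·) hz
    simp only [← mul_assoc, mul_zero] at h'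
    rw [hK.comm y hy _ (K.sub_mem hw hω), hxy, one_mul] at h'
    exact Or.inr (sub_eq_zero.mp h')
  have hω'eq : ω' = s • (1 : MM) - ω := (hroots ω' hω' hsq').resolve_left hne
  have hs2 : (2 : F) = 0 → s ≠ 0 := fun h2 h0 => by
    refine hne (hω'eq.trans ?_)
    rw [h0, zero_smul, zero_sub, neg_eq_iff_add_eq_zero, ← two_smul F, h2, zero_smul]
  have hpol : ∀ u v, B (ω *ᵥ u) v + B (ω *ᵥ v) u = s * B u v := by
    intro u v
    rw [hB u v, quad_polar_comm Q (ω *ᵥ v) u, hω'eq]
    simp only [Matrix.sub_mulVec, Matrix.smul_mulVec, Matrix.one_mulVec, map_sub, map_smul, smul_eq_mul]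
    ring
  have hD : ∀ v, B (ω *ᵥ v) v - s * Q v = 0 := by
    by_cases h2 : (2 : F) = 0
    · refine semilinear_zero hirr (fun v => B (ω *ᵥ v) v - s * Q v) (fun u v => ?_) (fun c v => ?_) ?_
      · have hpl : Q (u + v) = Q u + Q v + B u v := QuadraticMap.map_add (⇑Q) u v
        have hp := hpol u v
        simp only [Matrix.mulVec_add, map_add, LinearMap.add_apply, hpl]
        linear_combination hp
      · simp only [Matrix.mulVec_smul, map_smul, LinearMap.smul_apply, smul_eq_mul, quad_smul]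
        ring
      · intro h hh v
        have hg := hiso h hh
        have hk : ((h⁻¹ : GL (Fin 10) F) : MM) * ω * (h : MM) ∈ K := by
          simpa using (hnor _ (H.inv_mem hh) ω).mp hω
        set w := ((h⁻¹ : GL (Fin 10) F) : MM) * ω * (h : MM) with hw
        have hwsq : w * w = s • w + t • (1 : MM) := by
          rw [hw]
          calc _ = ((h⁻¹ : GL (Fin 10) F) : MM) * (ω * ω) * (h : MM) := by simp [mul_assoc]
            _ = _ := by rw [hsq]; simp [mul_add, add_mul, ← Units.val_mul]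
        show B (ω *ᵥ ((h : MM) *ᵥ v)) ((h : MM) *ᵥ v) - s * Q ((h : MM) *ᵥ v) = B (ω *ᵥ v) v - s * Q v
        rw [Orth.iso_quad hg]
        congr 1
        have hhw : ω *ᵥ ((h : MM) *ᵥ v) = (h : MM) *ᵥ (w *ᵥ v) := by
          rw [hw, Matrix.mulVec_mulVec, Matrix.mulVec_mulVec, ← mul_assoc, ← mul_assoc, ← Units.val_mul,
            mul_inv_cancel, Units.val_one, one_mul]
        rw [hhw, Orth.iso_polar hg]
        rcases hroots w hk hwsq with e | e
        · rw [e]
        · rw [e, ← hω'eq, quad_polar_comm Q (ω' *ᵥ v) v]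
          exact (hB v v).symm
    · intro v
      have h := hpol v v
      rw [quad_polar_self] at h
      refine mul_left_cancel₀ h2 ?_
      rw [mul_zero]
      linear_combination h
  have hQω : ∀ v, Q (ω *ᵥ v) = - t * Q v := by
    intro v
    have h1 : B (ω *ᵥ v) (ω *ᵥ v) = -t * B v v := by
      rw [hB v (ω *ᵥ v), Matrix.mulVec_mulVec, hω'eq, sub_mul, Matrix.smul_mul, one_mul, hsq]
      simp only [Matrix.sub_mulVec, Matrix.add_mulVec, Matrix.smul_mulVec, Matrix.one_mulVec, map_sub, map_add,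
        map_smul, smul_eq_mul]
      ring
    rw [quad_polar_self, quad_polar_self] at h1
    by_cases h2 : (2 : F) = 0
    · have h := hD (ω *ᵥ v)
      rw [hsqv] at h
      simp only [map_add, map_smul, LinearMap.add_apply, LinearMap.smul_apply, smul_eq_mul, quad_polar_self] at h
      rw [quad_polar_comm Q v (ω *ᵥ v), eq_add_of_sub_eq (hD v), zero_add] at h
      refine mul_left_cancel₀ (hs2 h2) ?_
      have hbb : B (ω *ᵥ v) (ω *ᵥ v) = 2 * Q (ω *ᵥ v) := quad_polar_self Q _
      rw [hbb] at h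
      linear_combination h
    · exact mul_left_cancel₀ h2 (by linear_combination h1)
  refine Or.inr (Or.inr (Or.inr (Or.inr (Or.inr (Or.inr (Or.inr (Or.inr (Or.inr (Or.inr (Or.inr (Or.inl
    ⟨K, hK, hadj, hsa, ?_, heq⟩)))))))))))
  intro k hk
  obtain ⟨a, b, rfl⟩ := hall k hk
  refine ⟨a * a + a * b * s - t * (b * b), fun v => ?_⟩
  have hd := hD v
  have hpl : Q (a • v + b • ω *ᵥ v) = Q (a • v) + Q (b • ω *ᵥ v) + B (a • v) (b • ω *ᵥ v) :=
    QuadraticMap.map_add (⇑Q) _ _
  rw [Matrix.add_mulVec, Matrix.smul_mulVec, Matrix.smul_mulVec, Matrix.one_mulVec, hpl, quad_smul, quad_smul, hQω]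
  simp only [map_smul, LinearMap.smul_apply, smul_eq_mul]
  rw [quad_polar_comm Q v (ω *ᵥ v)]
  linear_combination (a * b) * hd

end Cfsg.Agent.Lib.MinusTen
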