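import Cfsg.Agent.Lib.MinusTen.Defs
import Cfsg.Agent.Lib.OrthNine.Adjoint
import Cfsg.Agent.Lib.TwoPrimeDim.Homogeneous
import Cfsg.Agent.Lib.TwoPrimeDim.Socle
import Cfsg.Agent.Lib.SLTwoPrime.Core

/-!
The maximal subgroups of `Ω₁₀⁻(q)`, given the geometric, tensor and form steps.
-/

set_option autoImplicit false
set_option linter.unusedSectionVars false

namespace Cfsg.Agent.Lib.MinusTen

open Matrix Module Cfsg.Geo
open QuadraticMap (polarBilin)
open scoped MatrixGroups Matrix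

attribute [-simp] QuadraticMap.polarBilin_apply_apply

variable {F : Type*} [Field F] [Fintype F] {Q : QuadraticForm F (Fin 10 → F)}

local notation "MM" => Matrix (Fin 10) (Fin 10) F

/-- What is used about invariant subspaces. -/
def ReducibleStep (Q : QuadraticForm F (Fin 10 → F)) (H : Subgroup (GL (Fin 10) F)) : Prop :=
  ∀ W : Submodule F (Fin 10 → F), W ≠ ⊥ → W ≠ ⊤ →
    (∀ g ∈ H, ∀ w ∈ W, (g : Matrix (Fin 10) (Fin 10) F) *ᵥ w ∈ W) → Cases Q H

/-- What is used about block systems. -/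
def BlocksStep (Q : QuadraticForm F (Fin 10 → F)) (H : Subgroup (GL (Fin 10) F)) : Prop :=
  ActsIrreducibly (matrixSet H) → ∀ N : Subgroup (GL (Fin 10) F), N ≤ H → (∀ g ∈ H, ∀ x ∈ N, g * x * g⁻¹ ∈ N) →
    ∀ (t w : ℕ) (e : Fin t → Matrix (Fin 10) (Fin 10) F), TwoPrimeDim.Blocks H N w e → Cases Q H

/-- What is used about fields of matrices. -/
def FieldStep (Q : QuadraticForm F (Fin 10 → F)) (H : Subgroup (GL (Fin 10) F)) : Prop :=
  ActsIrreducibly (matrixSet H) → ∀ (r : ℕ) (K : Subalgebra F (Matrix (Fin 10) (Fin 10) F)),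
    IsFieldSubalgebra r K → 1 < r → r ∣ 10 → IsAdjointClosedFor (QuadraticMap.polar ⇑Q) K →
    (∀ h ∈ H, h ∈ subalgebraNormalizer K) → Cases Q H

/-- What is used about homogeneous normal subgroups with two tensor factors. -/
def TensorStep (Q : QuadraticForm F (Fin 10 → F)) (H : Subgroup (GL (Fin 10) F)) : Prop :=
  ActsIrreducibly (matrixSet H) → ∀ N : Subgroup (GL (Fin 10) F), N ≤ H → (∀ g ∈ H, ∀ x ∈ N, g * x * g⁻¹ ∈ N) →
    ∀ (d k : ℕ) (A : N → Matrix (Fin d) (Fin d) F) (φ : Fin k → (Fin d → F) →ₗ[F] (Fin 10 → F)),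
      (∀ U : Submodule F (Fin d → F), (∀ n, ∀ u ∈ U, A n *ᵥ u ∈ U) → U = ⊥ ∨ U = ⊤) →
      (∀ X : Matrix (Fin d) (Fin d) F, (∀ n, X * A n = A n * X) → ∃ c : F, X = c • 1) →
      (∀ j (n : N) x, ((n : GL (Fin 10) F) : Matrix (Fin 10) (Fin 10) F) *ᵥ φ j x = φ j (A n *ᵥ x)) →
      Function.Bijective (MaxTensor.assemble φ) → d * k = 10 → 1 < d → 1 < k → Cases Q H

/-- What is used about the socle. -/
def FormsStep (Q : QuadraticForm F (Fin 10 → F)) (H : Subgroup (GL (Fin 10) F)) : Prop :=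
  ∀ P : Subgroup (GL (Fin 10) F), P ≤ H → (∀ h ∈ H, ∀ x ∈ P, h * x * h⁻¹ ∈ P) → ⁅P, P⁆ = P →
    IsSimpleGroup (P ⧸ (scalars (Fin 10) F).subgroupOf P) →
    ¬ IsMulCommutative (P ⧸ (scalars (Fin 10) F).subgroupOf P) →
    (∀ h ∈ H, (∀ x ∈ P, h * x * h⁻¹ * x⁻¹ ∈ scalars (Fin 10) F) → h ∈ scalars (Fin 10) F) →
    ActsAbsolutelyIrreducibly (matrixSet P) → Cases Q H

theorem centre_adjointClosed (hQ : Minus Q) {N : Subgroup (GL (Fin 10) F)} (hN : N ≤ Cfsg.isometryGroup F ⇑Q) :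
    IsAdjointClosedFor (QuadraticMap.polar ⇑Q) (TwoPrimeDim.centre N) := by
  intro k hk
  obtain ⟨k', hk'⟩ := OrthNine.Adjoint.exists_adj hQ.nd k
  exact ⟨k', OrthNine.Adjoint.adj_centre hQ.nd hN hk' hk, fun u v => by
    simpa only [QuadraticMap.polarBilin_apply_apply] using hk' u v⟩

/-- In the absence of geometric structures a normal subgroup is scalar or absolutely irreducible. -/
theorem scalar_or_absIrred (hQ : Minus Q) {H N : Subgroup (GL (Fin 10) F)} (hH : IsMaximalIn (omegaGL ⇑Q) H)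
    (hB : BlocksStep Q H) (hK' : FieldStep Q H) (hT : TensorStep Q H) (hirr : ActsIrreducibly (matrixSet H)) (hcases : ¬ Cases Q H) (hN : N ≤ H)
    (hNG : ∀ g ∈ H, ∀ x ∈ N, g * x * g⁻¹ ∈ N) : N ≤ scalars (Fin 10) F ∨ ActsAbsolutelyIrreducibly (matrixSet N) := by
  classical
  rcases Cfsg.Agent.Lib.TwoPrimeDim.centre_cases hirr hNG with ⟨r, hr, hK⟩ | ⟨t, w, e, hBl⟩
  swap
  · exact absurd (hB hirr N hN hNG t w e hBl) hcases
  rw [Fintype.card_fin] at hr
  rcases Nat.lt_or_ge 1 r with h1 | h1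
  · exact absurd (hK' hirr r _ hK h1 hr (centre_adjointClosed hQ (hN.trans (hH.1.le.trans MaxSub.Orth.omegaGL_le_isometry)))
      fun h hh => Cfsg.Agent.Lib.TwoPrimeDim.centre_normalized hNG hh) hcases
  have hr1 : r = 1 := by
    rcases Nat.eq_zero_or_pos r with h | h
    · rw [h, Nat.zero_dvd] at hr
      omega
    · omega
  have hc : ∀ M ∈ Cfsg.Agent.Lib.TwoPrimeDim.centre N, ∃ c : F, M = c • (1 : MM) := by
    intro M hM
    obtain ⟨c, hcM⟩ := (finrank_eq_one_iff_of_nonzero'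
      (⟨1, (Cfsg.Agent.Lib.TwoPrimeDim.centre N).one_mem⟩ : Subalgebra.toSubmodule (Cfsg.Agent.Lib.TwoPrimeDim.centre N))
      (fun h => zero_ne_one (α := MM) (congrArg Subtype.val h).symm)).mp (hK.finrank_eq.trans hr1) ⟨M, hM⟩
    exact ⟨c, (congrArg Subtype.val hcM).symm⟩
  obtain ⟨d, k, A, φ, hdk, hd, hk, hAirr, hAscal, hφ, hbij⟩ :=
    Cfsg.Agent.Lib.TwoPrimeDim.homogeneous hirr hNG hc
  rw [Fintype.card_fin] at hdk
  rcases eq_or_lt_of_le (Nat.one_le_iff_ne_zero.mpr hd.ne') with hd1 | hd1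
  · left
    subst hd1
    intro x hx
    set a := A ⟨x, hx⟩ 0 0
    have hmat : (x : MM) = a • (1 : MM) := Cfsg.Agent.Lib.TwoPrimeDim.eq_of_mulVec fun v => by
      obtain ⟨u, rfl⟩ := hbij.2 v
      have hA1 : ∀ y : Fin 1 → F, A ⟨x, hx⟩ *ᵥ y = a • y := fun y => by
        funext i
        obtain rfl : i = 0 := Subsingleton.elim _ _
        simp [Matrix.mulVec, dotProduct, a]
      simp only [Cfsg.Agent.Lib.MaxTensor.assemble, LinearMap.coe_mk, AddHom.coe_mk, Matrix.mulVec_sum,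
        Matrix.smul_mulVec, Matrix.one_mulVec, Finset.smul_sum]
      exact Finset.sum_congr rfl fun j _ => by rw [hφ j ⟨x, hx⟩, hA1, map_smul]
    exact Cfsg.Agent.Lib.SLTwoPrime.mem_scalars_of_val hmat
  rcases eq_or_lt_of_le (Nat.one_le_iff_ne_zero.mpr hk.ne') with hk1 | hk1
  swap
  · exact absurd (hT hirr N hN hNG d k A φ hAirr hAscal hφ hbij hdk hd1 hk1) hcases
  right
  subst hk1
  have hval : ∀ u, Cfsg.Agent.Lib.MaxTensor.assemble φ u = φ 0 (u 0) := fun u => by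
    simp [Cfsg.Agent.Lib.MaxTensor.assemble]
  have h0 : Function.Bijective (φ 0) := by
    refine ⟨fun a b hab => ?_, fun v => ?_⟩
    · have := congrFun (hbij.1 (a₁ := fun _ => a) (a₂ := fun _ => b) (by rw [hval, hval, hab])) 0
      exact this
    · obtain ⟨u, rfl⟩ := hbij.2 v
      exact ⟨u 0, (hval u).symm⟩
  let Φ := LinearEquiv.ofBijective (φ 0) h0
  refine ⟨(Cfsg.Agent.Lib.TwoPrimeDim.actsIrreducibly_iff N).mpr fun U hU => ?_, fun M hM => ?_⟩
  · rcases hAirr (U.comap (φ 0)) fun n u hu => by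
        rw [Submodule.mem_comap] at hu ⊢
        rw [← hφ]
        exact hU n n.2 _ hu with h | h
    · left
      rw [← Submodule.map_comap_eq_of_surjective h0.2 U, h, Submodule.map_bot]
    · right
      rw [← Submodule.map_comap_eq_of_surjective h0.2 U, h, Submodule.map_top, LinearMap.range_eq_top.mpr h0.2]
  · let X := LinearMap.toMatrix' (Φ.symm.toLinearMap ∘ₗ Matrix.toLin' M ∘ₗ Φ.toLinearMap)
    have hX : ∀ y, φ 0 (X *ᵥ y) = M *ᵥ φ 0 y := fun y => by
      rw [← Matrix.toLin'_apply X, Matrix.toLin'_toMatrix']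
      simp only [LinearMap.comp_apply, LinearEquiv.coe_coe, Matrix.toLin'_apply]
      exact Φ.apply_symm_apply _
    obtain ⟨c, hcX⟩ := hAscal X fun n => Matrix.ext_of_mulVec_single fun i => h0.1 (by
      rw [← Matrix.mulVec_mulVec, ← Matrix.mulVec_mulVec, hX, ← hφ, ← hφ, hX, Matrix.mulVec_mulVec,
        Matrix.mulVec_mulVec, hM _ ⟨n, n.2, rfl⟩])
    refine ⟨c, Cfsg.Agent.Lib.TwoPrimeDim.eq_of_mulVec fun v => ?_⟩
    obtain ⟨y, rfl⟩ := h0.2 v
    rw [← hX, hcX, Matrix.smul_mulVec, Matrix.one_mulVec, map_smul, Matrix.smul_mulVec, Matrix.one_mulVec]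

/-- Every maximal subgroup is on the list, given the steps. -/
theorem maximal_cases_of (hQ : Minus Q) {H : Subgroup (GL (Fin 10) F)} (hH : IsMaximalIn (omegaGL ⇑Q) H)
    (hR : ReducibleStep Q H) (hB : BlocksStep Q H) (hK : FieldStep Q H) (hT : TensorStep Q H) (hF : FormsStep Q H) :
    Cases Q H := by
  classical
  by_contra hcases
  have hirr : ActsIrreducibly (matrixSet H) := by
    refine (TwoPrimeDim.actsIrreducibly_iff H).mpr fun W hW => ?_
    by_contra h
    rw [not_or] at h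
    exact hcases (hR W h.1 h.2 hW)
  have hG : ∀ N : Subgroup (GL (Fin 10) F), N ≤ H → (∀ g ∈ H, ∀ x ∈ N, g * x * g⁻¹ ∈ N) →
      N ≤ scalars (Fin 10) F ∨ SLTwoPrime.adj N = ⊤ := fun N hN hNG =>
    (scalar_or_absIrred hQ hH hB hK hT hirr hcases hN hNG).imp_right TwoPrimeDim.top_of_absIrred
  have hns : ¬ H ≤ scalars (Fin 10) F := by
    intro hle
    let v : Fin 10 → F := Pi.single 0 1
    have hv : v ≠ 0 := by simp [v]
    rcases (TwoPrimeDim.actsIrreducibly_iff H).mp hirr (F ∙ v) fun g hg w hw => by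
        obtain ⟨c, hc⟩ := (mem_scalars_iff g).mp (hle hg)
        rw [hc, Matrix.smul_mulVec, Matrix.one_mulVec]
        exact Submodule.smul_mem _ _ hw with h | h
    · rw [Submodule.span_singleton_eq_bot] at h
      exact hv h
    · have h1 := finrank_span_singleton (K := F) hv
      rw [h, finrank_top, Module.finrank_fintype_fun_eq_card, Fintype.card_fin] at h1
      omega
  obtain ⟨P, hle, hnorm, hperf, hsimp, hnab, htop, hcent⟩ :=
    TwoPrimeDim.exists_core (show Fintype.card (Fin 10) = 2 * 5 by simp) (by norm_num : (5 : ℕ).Prime) (by decide) hG hns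
  exact hcases (hF P hle hnorm hperf hsimp hnab hcent (SLTwoPrime.absIrred_of_top htop))

end Cfsg.Agent.Lib.MinusTen
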