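import Cfsg.Agent.Lib.MinusTen.Defs
import Cfsg.Agent.Lib.OrthAny.Orbit
import Cfsg.Agent.Lib.MaxSub.OrthAny

/-!
helper11: five orthogonal planes and two orthogonal halves in a form of minus type in dimension ten.
-/

set_option autoImplicit false
set_option linter.unusedSectionVars false

namespace Cfsg.Agent.Lib.MinusTen

open Matrix Module Cfsg.Geo
open Cfsg.Agent.Lib.MaxSub
open Cfsg.Agent.Lib.Geometry (quad_smul quad_polar_self quad_polar_comm)
open QuadraticMap (polarBilin)
open scoped MatrixGroups Matrix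

attribute [-simp] QuadraticMap.polarBilin_apply_apply

variable {F : Type*} [Field F] [Fintype F] {Q : QuadraticForm F (Fin 10 → F)}

local notation "VV" => (Fin 10 → F)

theorem planes_quad_add (u v : VV) : Q (u + v) = Q u + Q v + polarBilin Q u v := by
  rw [QuadraticMap.polarBilin_apply_apply, QuadraticMap.polar]
  ring

/-- The value on a sum of pairwise orthogonal vectors. -/
theorem planes_quad_sum {κ : Type*} [DecidableEq κ] (S : Finset κ) (x : κ → VV) :
    (∀ i ∈ S, ∀ j ∈ S, i ≠ j → polarBilin Q (x i) (x j) = 0) → Q (∑ i ∈ S, x i) = ∑ i ∈ S, Q (x i) := by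
  induction S using Finset.induction_on with
  | empty => intro _; simp
  | insert a S ha ih =>
    intro h
    rw [Finset.sum_insert ha, Finset.sum_insert ha, planes_quad_add,
      ih fun i hi j hj => h i (Finset.mem_insert_of_mem hi) j (Finset.mem_insert_of_mem hj), map_sum,
      Finset.sum_eq_zero fun j hj => h a (Finset.mem_insert_self _ _) j (Finset.mem_insert_of_mem hj)
        (fun e => ha (e ▸ hj)), add_zero]

/-- Five singular vectors in five orthogonal independent summands would give type plus. -/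
theorem planes_aniso (hQ : Minus Q) {D : Fin 5 → Submodule F VV}
    (hD : IsOrthogonalMDecomposition ⇑Q 2 D) (i : Fin 5) {x : VV} (hx : x ∈ D i) (hQx : Q x = 0) : x = 0 := by
  classical
  by_contra hx0
  choose E hE using fun j => hD.isometric i j
  let u : Fin 5 → VV := fun j => (E j ⟨x, hx⟩ : VV)
  have hu : ∀ j, u j ∈ D j := fun j => (E j ⟨x, hx⟩).2
  have hu0 : ∀ j, u j ≠ 0 := by
    intro j h
    have h1 : E j ⟨x, hx⟩ = 0 := Subtype.ext h
    rw [LinearEquiv.map_eq_zero_iff] at h1
    exact hx0 (congrArg Subtype.val h1)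
  have hli : LinearIndependent F u := hD.decomp.decomp.indep.linearIndependent _ hu hu0
  refine hQ.no_ts_five (U := Submodule.span F (Set.range u)) (fun v hv => ?_) ?_
  · obtain ⟨c, rfl⟩ := Submodule.mem_span_range_iff_exists_fun F |>.mp hv
    rw [planes_quad_sum]
    · refine Finset.sum_eq_zero fun j _ => ?_
      rw [QuadraticMap.map_smul]
      show _ • Q (u j) = 0
      rw [hE j ⟨x, hx⟩, hQx, smul_zero]
    · intro j _ l _ hjl
      rw [QuadraticMap.polarBilin_apply_apply]
      exact hD.decomp.orthogonal j l hjl _ ((D j).smul_mem _ (hu j)) _ ((D l).smul_mem _ (hu l))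
  · rw [finrank_span_eq_card hli, Fintype.card_fin]

/-- Over three elements each plane has exactly two lines on which the form takes a given value. -/
theorem planes_frame (hQ : Minus Q) (h3 : Fintype.card F = 3) {D : Fin 5 → Submodule F VV}
    (hD : IsOrthogonalMDecomposition ⇑Q 2 D) :
    ∃ (c : F) (v : Fin 5 × Fin 2 → VV), c ≠ 0 ∧ (∀ k, v k ∈ D k.1) ∧ (∀ k, Q (v k) = c) ∧
      (∀ k l, k ≠ l → polarBilin Q (v k) (v l) = 0) ∧
      ∀ i, ∀ x ∈ D i, Q x = c → ∃ (b : Fin 2) (s : F), x = s • v (i, b) := by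
  classical
  have hne : (3 : F) = 0 := by
    have h := FiniteField.cast_card_eq_zero F
    rwa [h3] at h
  have h2 : (2 : F) ≠ 0 := fun h => one_ne_zero (α := F) (by linear_combination hne - h)
  have hsq : ∀ a : F, a ≠ 0 → a * a = 1 := fun a ha => by
    have := FiniteField.pow_card_sub_one_eq_one a ha
    rwa [h3, show 3 - 1 = 2 from rfl, pow_two] at this
  have hval : ∀ a b : F, a ≠ 0 → b ≠ 0 → a + b ≠ 0 → a = b := by
    intro a b ha hb hab
    by_contra hne'
    refine hab (mul_left_cancel₀ (sub_ne_zero.mpr hne') ?_)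
    linear_combination hsq a ha - hsq b hb
  obtain ⟨x, hx, hx0⟩ := (Submodule.ne_bot_iff (D 0)).mp fun hb => by
    have := hD.decomp.decomp.finrank_eq 0
    rw [hb, finrank_bot] at this
    omega
  have hQx : Q x ≠ 0 := fun h => hx0 (planes_aniso hQ hD 0 hx h)
  -- the vector of the plane orthogonal to `x`
  obtain ⟨y, hy, hy0, hxy⟩ : ∃ y ∈ D 0, y ≠ 0 ∧ polarBilin Q x y = 0 := by
    let φ : D 0 →ₗ[F] F := (polarBilin Q x).comp (D 0).subtype
    have hk : LinearMap.ker φ ≠ ⊥ := LinearMap.ker_ne_bot_of_finrank_lt (by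
      rw [hD.decomp.decomp.finrank_eq 0, Module.finrank_self]; norm_num)
    obtain ⟨z, hz, hz0⟩ := (Submodule.ne_bot_iff _).mp hk
    exact ⟨z, z.2, fun h => hz0 (Subtype.ext h), LinearMap.mem_ker.mp hz⟩
  have hQy : Q y ≠ 0 := fun h => hy0 (planes_aniso hQ hD 0 hy h)
  have hyx : Q y = Q x := by
    refine hval _ _ hQy hQx fun h => ?_
    have h1 : x + y = 0 := planes_aniso hQ hD 0 ((D 0).add_mem hx hy) (by
      rw [planes_quad_add, hxy, add_zero, add_comm, h])
    have h2' := congrArg (polarBilin Q x) h1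
    rw [map_add, hxy, add_zero, map_zero, quad_polar_self] at h2'
    exact mul_ne_zero h2 hQx h2'
  choose E hE using fun j => hD.isometric 0 j
  have hEpol : ∀ j (a b : D 0), polarBilin Q (E j a : VV) (E j b : VV) = polarBilin Q (a : VV) (b : VV) := by
    intro j a b
    simp only [QuadraticMap.polarBilin_apply_apply, QuadraticMap.polar, ← Submodule.coe_add, ← map_add, hE]
  let v : Fin 5 × Fin 2 → VV := fun k => (E k.1 (if k.2 = 0 then ⟨x, hx⟩ else ⟨y, hy⟩) : VV)
  refine ⟨Q x, v, hQx, fun k => (E k.1 _).2, fun k => ?_, fun k l hkl => ?_, fun i z hz hQz => ?_⟩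
  · show Q (E k.1 _ : VV) = _
    rw [hE]
    split_ifs
    · rfl
    · exact hyx
  · by_cases h : k.1 = l.1
    · show polarBilin Q (E k.1 _ : VV) (E l.1 _ : VV) = 0
      rw [← h, hEpol]
      obtain ⟨i, a⟩ := k
      obtain ⟨i', b⟩ := l
      have hab : a ≠ b := fun e => hkl (Prod.ext h e)
      fin_cases a <;> fin_cases b <;> simp_all
      all_goals first | exact hxy | (rw [quad_polar_comm]; exact hxy)
    · rw [QuadraticMap.polarBilin_apply_apply]
      exact hD.decomp.orthogonal _ _ h _ (E k.1 _).2 _ (E l.1 _).2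
  · -- coordinates of `z`
    let b : Fin 2 → D 0 := ![⟨x, hx⟩, ⟨y, hy⟩]
    have hbli : LinearIndependent F b := by
      rw [Fintype.linearIndependent_iff]
      intro g hg k
      have h1 := congrArg (fun w : D 0 => polarBilin Q x (w : VV)) hg
      have h1' := congrArg (fun w : D 0 => polarBilin Q y (w : VV)) hg
      simp only [b, Fin.sum_univ_two, Matrix.cons_val_zero, Matrix.cons_val_one, Submodule.coe_add, Submodule.coe_smul,
        map_add, map_smul, ZeroMemClass.coe_zero, map_zero, hxy, quad_polar_self, quad_polar_comm Q y x,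
        smul_eq_mul, mul_zero, add_zero, zero_add, hyx] at h1 h1'
      have hz := mul_ne_zero h2 hQx
      fin_cases k
      · exact (mul_eq_zero.mp h1).resolve_right hz
      · exact (mul_eq_zero.mp h1').resolve_right hz
    obtain ⟨w, hw⟩ := (E i).surjective ⟨z, hz⟩
    have hspan : Submodule.span F (Set.range b) = ⊤ :=
      hbli.span_eq_top_of_card_eq_finrank (by rw [Fintype.card_fin, hD.decomp.decomp.finrank_eq 0])
    obtain ⟨g, hg⟩ := Submodule.mem_span_range_iff_exists_fun F |>.mp (hspan.ge (Submodule.mem_top : w ∈ ⊤))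
    simp only [b, Fin.sum_univ_two, Matrix.cons_val_zero, Matrix.cons_val_one] at hg
    have hzw : z = (E i w : VV) := (congrArg Subtype.val hw).symm
    have hq : g 0 * g 0 + g 1 * g 1 = 1 := by
      have h := hE i w
      rw [← hzw, hQz, ← hg, Submodule.coe_add, Submodule.coe_smul, Submodule.coe_smul, planes_quad_add, quad_smul,
        quad_smul, map_smul, map_smul, LinearMap.smul_apply, hxy, smul_zero, smul_zero, add_zero, hyx] at h
      exact mul_right_cancel₀ hQx (by linear_combination -h)
    by_cases h0 : g 0 = 0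
    · refine ⟨1, g 1, ?_⟩
      show z = g 1 • (E i _ : VV)
      rw [hzw, ← hg, h0, zero_smul, zero_add, map_smul, Submodule.coe_smul]
      rfl
    · have h1 : g 1 = 0 := by
        by_contra h1
        rw [hsq _ h0, hsq _ h1] at hq
        exact one_ne_zero (α := F) (by linear_combination hq)
      refine ⟨0, g 0, ?_⟩
      show z = g 0 • (E i _ : VV)
      rw [hzw, ← hg, h1, zero_smul, add_zero, map_smul, Submodule.coe_smul]
      rfl

/-- Five isometric orthogonal planes. -/
theorem planes_cases (hQ : Minus Q) {H : Subgroup (GL (Fin 10) F)} (hH : IsMaximalIn (omegaGL ⇑Q) H)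
    {D : Fin 5 → Submodule F VV} (hD : IsOrthogonalMDecomposition ⇑Q 2 D) (hle : H ≤ decompositionStabilizer D) :
    Cases Q H := by
  classical
  by_cases h3 : Fintype.card F = 3
  swap
  · exact Or.inr (Or.inr (Or.inr (Or.inr (Or.inr (Or.inr (Or.inr (Or.inl ⟨h3, D, hD,
      PrimeDim.OrthProper.eq_inf_of_le hH hle
        (OrthAny.not_le_decompositionStabilizer hQ.nd (by simp) hD.decomp.decomp)⟩)))))))
  obtain ⟨c, v, hc, hvD, hQv, horth, hcl⟩ := planes_frame hQ h3 hD
  have h2 : (2 : F) ≠ 0 := fun h => one_ne_zero (α := F) (by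
    have h' := FiniteField.cast_card_eq_zero F
    rw [h3] at h'
    push_cast at h'
    linear_combination h' - h)
  let p : Fin 10 ≃ Fin 5 × Fin 2 := (finProdFinEquiv (m := 5) (n := 2)).symm
  let u : Fin 10 → VV := fun k => v (p k)
  have hBu : ∀ k l, polarBilin Q (u k) (u l) = if k = l then 2 * c else 0 := by
    intro k l
    by_cases hkl : k = l
    · subst hkl; rw [if_pos rfl, quad_polar_self, hQv]
    · rw [if_neg hkl]; exact horth _ _ fun e => hkl (p.injective e)
  have h2c : 2 * c ≠ 0 := mul_ne_zero h2 hc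
  have hli : LinearIndependent F u := by
    refine Fintype.linearIndependent_iff.mpr fun g hg k => ?_
    have h := congrArg (polarBilin Q (u k)) hg
    simp only [map_sum, map_zero, map_smul, hBu, smul_eq_mul, mul_ite, mul_zero, Finset.sum_ite_eq,
      Finset.mem_univ, if_true] at h
    exact (mul_eq_zero.mp h).resolve_right h2c
  have hu0 : ∀ k, u k ≠ 0 := fun k => hli.ne_zero k
  let D' : Fin 10 → Submodule F VV := fun k => F ∙ u k
  have hD'1 : ∀ k, finrank F (D' k) = 1 := fun k => finrank_span_singleton (hu0 k)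
  have hD' : IsOrthogonalMDecomposition ⇑Q 1 D' := by
    refine ⟨⟨⟨by norm_num, one_pos, hD'1, hli.iSupIndep_span_singleton, ?_⟩, fun k => ?_, fun k l hkl => ?_⟩,
      fun k l => ?_⟩
    · rw [← Submodule.span_range_eq_iSup]
      exact hli.span_eq_top_of_card_eq_finrank (by simp)
    · intro w hw hw0
      obtain ⟨d, rfl⟩ := Submodule.mem_span_singleton.mp hw
      have hd0 : d ≠ 0 := fun h => hw0 (by rw [h, zero_smul])
      have hne : polarBilin Q (u k) (d • u k) ≠ 0 := by
        rw [map_smul, smul_eq_mul, hBu, if_pos rfl]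
        exact mul_ne_zero hd0 h2c
      refine ⟨⟨u k, Submodule.mem_span_singleton_self _, ?_⟩, u k, Submodule.mem_span_singleton_self _, ?_⟩
      · rwa [← QuadraticMap.polarBilin_apply_apply]
      · rw [QuadraticMap.polar_comm, ← QuadraticMap.polarBilin_apply_apply]; exact hne
    · intro x hx w hw
      obtain ⟨a, rfl⟩ := Submodule.mem_span_singleton.mp hx
      obtain ⟨d, rfl⟩ := Submodule.mem_span_singleton.mp hw
      rw [← QuadraticMap.polarBilin_apply_apply, map_smul, map_smul, LinearMap.smul_apply, hBu, if_neg hkl,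
        smul_zero, smul_zero]
    · refine ⟨(LinearEquiv.toSpanNonzeroSingleton F _ (u k) (hu0 k)).symm.trans
        (LinearEquiv.toSpanNonzeroSingleton F _ (u l) (hu0 l)), fun w => ?_⟩
      obtain ⟨a, rfl⟩ := (LinearEquiv.toSpanNonzeroSingleton F _ (u k) (hu0 k)).surjective w
      rw [LinearEquiv.trans_apply, LinearEquiv.symm_apply_apply]
      show Q (a • u l) = Q (a • u k)
      rw [quad_smul, quad_smul, hQv, hQv]
  refine Or.inr (Or.inr (Or.inr (Or.inr (Or.inr (Or.inr (Or.inl ⟨⟨3, Nat.prime_three, h3, rfl⟩, D', hD',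
    PrimeDim.OrthProper.eq_inf_of_le hH (fun g hg => ?_)
      (OrthAny.not_le_decompositionStabilizer hQ.nd (by simp) hD'.decomp.decomp)⟩))))))
  have hgiso := Orth.omegaGL_le_isometry (hH.1.le hg)
  obtain ⟨σ, hσ⟩ := hle hg
  have hstep : ∀ k, ∃ (j : Fin 10) (s : F), (g : Matrix (Fin 10) (Fin 10) F) *ᵥ u k = s • u j := by
    intro k
    have hm : (g : Matrix (Fin 10) (Fin 10) F) *ᵥ u k ∈ D (σ (p k).1) :=
      hσ _ ▸ ⟨_, hvD _, Matrix.toLin'_apply _ _⟩
    obtain ⟨b, s, hs⟩ := hcl _ _ hm (by rw [Orth.iso_quad hgiso]; exact hQv _)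
    exact ⟨p.symm (σ (p k).1, b), s, by rw [hs]; simp [u]⟩
  choose τ s hτ using hstep
  have hs0 : ∀ k, s k ≠ 0 := by
    intro k h
    have h' := hτ k
    rw [h, zero_smul] at h'
    have h1 := Orth.iso_quad hgiso (u k)
    rw [h', map_zero] at h1
    exact hc (((h1.trans (hQv _))).symm)
  have hinj : Function.Injective τ := by
    intro k l hkl
    by_contra hne
    have h4 := Orth.iso_polar hgiso (u k) (u l)
    rw [hτ, hτ, hkl, hBu k l, if_neg hne, map_smul, map_smul, LinearMap.smul_apply, hBu, if_pos rfl, smul_eq_mul,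
      smul_eq_mul] at h4
    exact mul_ne_zero (hs0 l) (mul_ne_zero (hs0 k) h2c) (by linear_combination h4)
  refine ⟨Equiv.ofBijective τ (Finite.injective_iff_bijective.mp hinj), fun k => ?_⟩
  show (F ∙ u k).map _ = F ∙ u (τ k)
  rw [Submodule.map_span, Set.image_singleton, Matrix.toLin'_apply, hτ,
    Submodule.span_singleton_smul_eq (Ne.isUnit (hs0 k))]

/-- Two isometric orthogonal halves. -/
theorem halves_cases (hQ : Minus Q) {H : Subgroup (GL (Fin 10) F)} (hH : IsMaximalIn (omegaGL ⇑Q) H)
    {D : Fin 2 → Submodule F VV} (hD : IsOrthogonalMDecomposition ⇑Q 5 D) (hle : H ≤ decompositionStabilizer D) :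
    Cases Q H := by
  classical
  have hnd : QuadType.Nd Q (D 0) := by
    intro a ha ha0
    obtain ⟨-, x, hx, hax⟩ := hD.decomp.nondegenerate 0 a ha ha0
    exact ⟨x, hx, hax⟩
  have h2 : (2 : F) ≠ 0 := fun h => by
    have := MaxSub.OrthAny.even_of_two Q h 5 hnd (hD.decomp.decomp.finrank_eq 0)
    exact absurd this (by decide)
  have hq : Fintype.card F % 4 = 3 := by
    by_contra hne
    obtain ⟨r, hr⟩ := FiniteField.isSquare_neg_one_iff.mpr hne
    obtain ⟨E, hE⟩ := hD.isometric 0 1
    let φ : D 0 →ₗ[F] VV := (D 0).subtype + r • ((D 1).subtype.comp E.toLinearMap)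
    have hφ : ∀ w : D 0, φ w = (w : VV) + r • (E w : VV) := fun w => rfl
    have hinj : Function.Injective φ := by
      rw [← LinearMap.ker_eq_bot, Submodule.eq_bot_iff]
      intro w hw
      rw [LinearMap.mem_ker, hφ] at hw
      have h01 := hD.decomp.decomp.indep.pairwiseDisjoint (show (0 : Fin 2) ≠ 1 by decide)
      have hm : (w : VV) ∈ D 1 := by
        rw [eq_neg_of_add_eq_zero_left hw]
        exact (D 1).neg_mem ((D 1).smul_mem _ (E w).2)
      exact Subtype.ext (Submodule.disjoint_def.mp h01 _ w.2 hm)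
    refine hQ.no_ts_five (U := LinearMap.range φ) ?_ ?_
    · rintro _ ⟨w, rfl⟩
      have hp : polarBilin Q (w : VV) (r • (E w : VV)) = 0 := by
        rw [QuadraticMap.polarBilin_apply_apply]
        exact hD.decomp.orthogonal 0 1 (by decide) _ w.2 _ ((D 1).smul_mem _ (E w).2)
      rw [hφ, planes_quad_add, hp, add_zero, quad_smul, hE]
      linear_combination -(Q (w : VV)) * hr
    · rw [LinearMap.finrank_range_of_inj hinj, hD.decomp.decomp.finrank_eq 0]
  exact Or.inr (Or.inr (Or.inr (Or.inr (Or.inr (Or.inr (Or.inr (Or.inr (Or.inl ⟨hq, D, hD,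
    PrimeDim.OrthProper.eq_inf_of_le hH hle
      (OrthAny.not_le_decompositionStabilizer hQ.nd (by simp) hD.decomp.decomp)⟩))))))))

end Cfsg.Agent.Lib.MinusTen
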