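import Cfsg.Agent.Lib.MinusTen.Defs
import Cfsg.Agent.Lib.OrthAny.Reducible
import Cfsg.Agent.Lib.OrthAny.Orbit
import Cfsg.Agent.Lib.MaxSub.OrthOddSub
import Cfsg.Agent.Lib.Geometry.Spinor

/-!
The reducible maximal subgroups of `Ω₁₀⁻(q)`: two non-degenerate 5-spaces are isometric exactly for `q ≡ 3 (mod 4)`.
-/

set_option autoImplicit false
set_option linter.unusedSectionVars false

namespace Cfsg.Agent.Lib.MinusTen

open Matrix Module
open Cfsg.Agent.Lib.MaxSub
open Cfsg.Agent.Lib.MaxSub.QuadType (Nd TS Plus perp Carries)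
open Cfsg.Agent.Lib.Geometry (quad_add quad_smul quad_polar_self quad_polar_comm)
open QuadraticMap (polarBilin)
open scoped MatrixGroups Matrix

attribute [-simp] QuadraticMap.polarBilin_apply_apply

variable {F : Type*} [Field F] [Fintype F] {Q : QuadraticForm F (Fin 10 → F)}

theorem not_le_subspaceStabilizer (hQ : Minus Q) {W : Submodule F (Fin 10 → F)} (h0 : W ≠ ⊥) (h1 : W ≠ ⊤) :
    ¬ Cfsg.Geo.omegaGL ⇑Q ≤ Cfsg.Geo.subspaceStabilizer W :=
  OrthAny.not_le_subspaceStabilizer hQ.nd (by simp) h0 h1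

/-- For `q ≡ 1 (mod 4)` two orthogonal non-degenerate 5-spaces are not isometric. -/
theorem not_isometric (hQ : Minus Q) (h4 : Fintype.card F % 4 = 1) {W W' : Submodule F (Fin 10 → F)}
    (hW : Nd Q W) (hWd : finrank F W = 5) (hperp : W' ≤ perp Q W) : ¬ Cfsg.Geo.AreIsometricFor (⇑Q) W W' := by
  rintro ⟨e, he⟩
  obtain ⟨i, hi⟩ := FiniteField.isSquare_neg_one_iff.mpr (by omega : Fintype.card F % 4 ≠ 3)
  let f : W →ₗ[F] (Fin 10 → F) := W.subtype + i • (W'.subtype ∘ₗ e.toLinearMap)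
  have hf : Function.Injective f := (injective_iff_map_eq_zero f).2 fun w hw => by
    by_contra h0
    obtain ⟨x, hx, hwx⟩ := hW w w.2 fun e0 => h0 (Subtype.ext e0)
    have h1 := congrArg (polarBilin Q x) hw
    simp only [f, LinearMap.add_apply, LinearMap.smul_apply, LinearMap.comp_apply, Submodule.coe_subtype, map_add,
      map_smul, map_zero, LinearEquiv.coe_coe, hperp (e w).2 x hx, smul_zero, add_zero] at h1
    exact hwx (by rw [quad_polar_comm]; exact h1)
  refine hQ.no_ts_five (U := LinearMap.range f) ?_ ?_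
  · rintro _ ⟨w, rfl⟩
    simp only [f, LinearMap.add_apply, LinearMap.smul_apply, LinearMap.comp_apply, Submodule.coe_subtype,
      LinearEquiv.coe_coe]
    rw [quad_add, quad_smul, map_smul, hperp (e w).2 w w.2, he, ← hi, smul_zero]
    ring
  · rw [LinearMap.finrank_range_of_inj hf, hWd]

/-- For `q ≡ 3 (mod 4)` two orthogonal non-degenerate 5-spaces are isometric. -/
theorem isometric (hQ : Minus Q) (h4 : Fintype.card F % 4 = 3) {W W' : Submodule F (Fin 10 → F)}
    (hW : Nd Q W) (hWd : finrank F W = 5) (hW' : Nd Q W') (hWd' : finrank F W' = 5) (hperp : W' ≤ perp Q W) :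
    Cfsg.Geo.AreIsometricFor (⇑Q) W W' := by
  have hN := hQ.nd
  have hns : ¬ IsSquare (-1 : F) := fun h => FiniteField.isSquare_neg_one_iff.mp h h4
  have h2 : (2 : F) ≠ 0 := fun h => by
    haveI : CharP F 2 := CharTwo.of_one_ne_zero_of_two_eq_zero one_ne_zero h
    exact hns ⟨1, by rw [mul_one, CharTwo.neg_eq]⟩
  have split : ∀ {U : Submodule F (Fin 10 → F)}, Nd Q U → finrank F U = 5 → ∃ P a, P ≤ U ∧ Nd Q P ∧ Plus Q P ∧
      finrank F P = 4 ∧ a ∈ U ⊓ perp Q P ∧ Q a ≠ 0 ∧ U ⊓ perp Q P = F ∙ a ∧ P ⊔ (F ∙ a) = U := by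
    intro U hU hUd
    obtain ⟨P, hPU, hP, hPd, hPp⟩ := QuadType.exists_type Q hN h2 2 hU (by omega) True (fun _ => trivial)
    obtain ⟨hs, hR, hRd⟩ := QuadType.split_off Q hU hP hPU
    obtain ⟨a, ha, ha0⟩ := (Submodule.ne_bot_iff _).1 (fun e => by rw [e, finrank_bot] at hRd; omega :
      U ⊓ perp Q P ≠ ⊥)
    have hspan : (F ∙ a) = U ⊓ perp Q P := Submodule.eq_of_le_of_finrank_le
      ((Submodule.span_singleton_le_iff_mem _ _).2 ha) (by rw [finrank_span_singleton ha0]; omega)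
    refine ⟨P, a, hPU, hP, hPp.2 trivial, hPd, ha, fun h0 => ?_, hspan.symm, by rw [hspan, hs]⟩
    obtain ⟨x, hx, hax⟩ := hR a ha ha0
    rw [← hspan, Submodule.mem_span_singleton] at hx
    obtain ⟨c, rfl⟩ := hx
    exact hax (by rw [map_smul, quad_polar_self, h0, mul_zero, smul_zero])
  obtain ⟨P, a, hPW, hP, hPp, hPd, ha, hQa, hR, hsup⟩ := split hW hWd
  obtain ⟨P', b, hPW', hP', hPp', hPd', hb, hQb, hR', hsup'⟩ := split hW' hWd'
  have hab : polarBilin Q a b = 0 := hperp hb.1 a ha.1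
  obtain ⟨hE, hEd, hEp⟩ := QuadType.plane_iff Q hN h2 hQa hQb hab
  have hPP : P' ≤ perp Q P := fun x hx w hw => hperp (hPW' hx) w (hPW hw)
  obtain ⟨hPS, hPSd⟩ := QuadType.nd_sup Q hP hP' hPP
  have hEperp : (F ∙ a) ⊔ (F ∙ b) ≤ perp Q (P ⊔ P') := by
    refine sup_le ((Submodule.span_singleton_le_iff_mem _ _).2 ?_) ((Submodule.span_singleton_le_iff_mem _ _).2 ?_)
    · intro w hw
      obtain ⟨p, hp, p', hp', rfl⟩ := Submodule.mem_sup.1 hw
      rw [map_add, LinearMap.add_apply, ha.2 p hp, QuadType.mem_perp' Q (hperp (hPW' hp')) ha.1, add_zero]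
    · intro w hw
      obtain ⟨p, hp, p', hp', rfl⟩ := Submodule.mem_sup.1 hw
      rw [map_add, LinearMap.add_apply, hperp hb.1 p (hPW hp), hb.2 p' hp', add_zero]
  have hsq : IsSquare (Q a * Q b) := by
    have hn : ¬ IsSquare (-(Q a * Q b)) := fun h => by
      obtain ⟨-, htd⟩ := QuadType.nd_sup Q hPS hE hEperp
      have htop : (P ⊔ P') ⊔ ((F ∙ a) ⊔ (F ∙ b)) = ⊤ :=
        Submodule.eq_top_of_finrank_eq (by rw [htd, finrank_fin_fun]; omega)
      exact hQ.not_plus (htop ▸ QuadType.plus_sup Q hN hPS hE hEperp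
        (QuadType.plus_sup Q hN hP hP' hPP hPp hPp') (hEp.2 h))
    have := Geometry.isSquare_mul_iff_of_not_isSquare hns hn
    rwa [neg_one_mul, neg_neg] at this
  obtain ⟨c, hc⟩ := hsq
  obtain ⟨φ, hφ⟩ := QuadType.exists_carries Q hN h2 2 hP hP' hPd hPd' (iff_of_true hPp hPp')
  let ψ : (Fin 10 → F) →ₗ[F] (Fin 10 → F) := ((2 * Q a)⁻¹ • polarBilin Q a).smulRight ((c / Q b) • b)
  have hψa : ψ a = (c / Q b) • b := by
    simp only [ψ, LinearMap.smulRight_apply, LinearMap.smul_apply, quad_polar_self, smul_eq_mul,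
      inv_mul_cancel₀ (mul_ne_zero h2 hQa), one_smul]
  have hc0 : c / Q b ≠ 0 := div_ne_zero (fun e => mul_ne_zero hQa hQb (by rw [hc, e, mul_zero])) hQb
  have hψ : Carries Q ψ (F ∙ a) (F ∙ b) := by
    refine ⟨?_, fun x hx => ?_⟩
    · rw [Submodule.map_span, Set.image_singleton, hψa, Submodule.span_singleton_smul_eq hc0.isUnit]
    · obtain ⟨t, rfl⟩ := Submodule.mem_span_singleton.1 hx
      have hval : c / Q b * (c / Q b) * Q b = Q a := by
        rw [div_mul_div_comm, ← hc]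
        field_simp
      rw [map_smul, hψa, quad_smul, quad_smul, quad_smul, hval]
  obtain ⟨χ, hχ⟩ := QuadType.carries_sup Q hN hP (hR.ge.trans inf_le_right) (hR'.ge.trans inf_le_right) hφ hψ
  rw [hsup, hsup'] at hχ
  exact OrthOddSub.iso_of_carries Q hW hχ

/-- A maximal subgroup fixing a proper subspace. -/
theorem reducible_cases (hQ : Minus Q) {H : Subgroup (GL (Fin 10) F)}
    (hH : Cfsg.Geo.IsMaximalIn (Cfsg.Geo.omegaGL ⇑Q) H) {W : Submodule F (Fin 10 → F)} (h0 : W ≠ ⊥) (h1 : W ≠ ⊤)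
    (hW : ∀ g ∈ H, ∀ w ∈ W, (g : Matrix (Fin 10) (Fin 10) F) *ᵥ w ∈ W) : Cases Q H := by
  have hN := hQ.nd
  rcases OrthAny.reducible_cases hN (by simp) hH h0 h1 hW with
    hts | ⟨hq, U, hU0, hUt, hodd, hUn, hnd, hUeq⟩ | ⟨U, hU0, hUt, hev, hUn, hnd, hexc, hUeq⟩ | hline
  · exact Or.inl hts
  · rw [Fintype.card_fin] at hUn
    by_cases h5 : finrank F U = 5
    swap
    · exact Or.inr (Or.inl ⟨hq, U, hU0, hUt, hodd, by omega, hnd, hUeq⟩)
    have hU : Nd Q U := (OrthOddSub.nd_iff Q).1 hnd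
    obtain ⟨hsup, hP, hdim, hpp⟩ := QuadType.compl_perp Q hN hU
    rw [finrank_fin_fun] at hdim
    have hP5 : finrank F (perp Q U) = 5 := by omega
    set D : Fin 2 → Submodule F (Fin 10 → F) := ![U, perp Q U] with hD
    have hdis : Disjoint U (perp Q U) := by
      rw [disjoint_iff, eq_bot_iff]
      rintro v ⟨hv, hv'⟩
      by_contra hv0
      obtain ⟨x, hx, hvx⟩ := hU v hv (by simpa using hv0)
      exact hvx (QuadType.mem_perp' Q hv' hx)
    have hnd' : Cfsg.Geo.IsNondegenerateMDecomposition (QuadraticMap.polar ⇑Q) 5 D := by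
      refine ⟨⟨le_rfl, by norm_num, fun i => ?_, ?_, ?_⟩, fun i => ?_, fun i j hij => ?_⟩
      · revert i; exact Fin.forall_fin_two.mpr ⟨h5, hP5⟩
      · rw [iSupIndep_pair (i := 0) (j := 1) (by decide) (fun k => by fin_cases k <;> simp)]
        simpa [hD] using hdis
      · rw [eq_top_iff, ← hsup]
        exact sup_le (le_iSup D 0) (le_iSup D 1)
      · fin_cases i
        · simpa [hD] using hnd
        · simpa [hD] using (OrthOddSub.nd_iff Q).2 hP
      · fin_cases i <;> fin_cases j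
        · exact absurd rfl hij
        · intro u hu v hv
          rw [← QuadraticMap.polarBilin_apply_apply]
          exact hv u hu
        · intro u hu v hv
          rw [← QuadraticMap.polarBilin_apply_apply]
          exact QuadType.mem_perp' Q hu hv
        · exact absurd rfl hij
    have hle : H ≤ Cfsg.Geo.decompositionStabilizer D := by
      intro g hg
      have hgS : ∀ w ∈ U, (g : Matrix (Fin 10) (Fin 10) F) *ᵥ w ∈ U := fun w hw =>
        PrimeDim.OrthProper.maps_of_mem_stabilizer (hUeq ▸ hg : g ∈ _ ⊓ Cfsg.Geo.omegaGL ⇑Q).1 hw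
      have hiso := Orth.omegaGL_le_isometry (hH.1.le hg)
      have hmapU : U.map (Matrix.toLin' (g : Matrix (Fin 10) (Fin 10) F)) = U := by
        refine le_antisymm (by rintro _ ⟨w, hw, rfl⟩; simpa using hgS w hw) fun w hw => ?_
        refine ⟨((g⁻¹ : GL (Fin 10) F) : Matrix (Fin 10) (Fin 10) F) *ᵥ w,
          PrimeDim.OrthProper.maps_of_mem_stabilizer
            (hUeq ▸ H.inv_mem hg : g⁻¹ ∈ _ ⊓ Cfsg.Geo.omegaGL ⇑Q).1 hw, ?_⟩
        rw [Matrix.toLin'_apply, Matrix.mulVec_mulVec, ← Units.val_mul, mul_inv_cancel, Units.val_one,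
          Matrix.one_mulVec]
      have hmapP : (perp Q U).map (Matrix.toLin' (g : Matrix (Fin 10) (Fin 10) F)) = perp Q U := by
        refine Submodule.eq_of_le_of_finrank_le ?_ ?_
        · rintro _ ⟨z, hz, rfl⟩ w hw
          obtain ⟨y, hy, rfl⟩ := hmapU.symm ▸ hw
          rw [Matrix.toLin'_apply, Matrix.toLin'_apply, Orth.iso_polar hiso]
          exact hz y hy
        · have hinj : Function.Injective (Matrix.toLin' (g : Matrix (Fin 10) (Fin 10) F)) := fun x y hxy => by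
            have := congrArg (((g⁻¹ : GL (Fin 10) F) : Matrix (Fin 10) (Fin 10) F) *ᵥ ·) hxy
            simpa [Matrix.mulVec_mulVec, ← Units.val_mul] using this
          exact (Submodule.equivMapOfInjective _ hinj _).finrank_eq.le
      exact ⟨1, fun i => by fin_cases i <;> simpa [hD]⟩
    have hDeq := PrimeDim.OrthProper.eq_inf_of_le hH hle
      (OrthAny.not_le_decompositionStabilizer hN (by simp) hnd'.decomp)
    obtain ⟨k, hk⟩ := hq
    rcases (show Fintype.card F % 4 = 3 ∨ Fintype.card F % 4 = 1 by omega) with h4 | h4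
    · have hi := isometric hQ h4 hU h5 hP hP5 le_rfl
      refine Or.inr (Or.inr (Or.inr (Or.inr (Or.inr (Or.inr (Or.inr (Or.inr (Or.inl ⟨h4, D, ⟨hnd', ?_⟩, hDeq⟩))))))))
      intro i j
      fin_cases i <;> fin_cases j <;>
        first
          | exact ⟨LinearEquiv.refl F _, fun _ => rfl⟩
          | exact hi
          | exact OrthOddSub.iso_symm Q hi
    · exact Or.inr (Or.inr (Or.inr (Or.inr (Or.inr (Or.inr (Or.inr (Or.inr (Or.inr (Or.inl
        ⟨h4, D, hnd', not_isometric hQ h4 hU h5 le_rfl, hDeq⟩)))))))))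
  · rw [Fintype.card_fin] at hUn
    have h24 : finrank F U = 2 ∨ finrank F U = 4 := by
      obtain ⟨k, hk⟩ := hev
      have : 1 ≤ finrank F U := Submodule.one_le_finrank_iff.mpr hU0
      omega
    rcases h24 with h2d | h4d
    · by_cases hp : Cfsg.Geo.IsPlusTypeOn (⇑Q) U
      · exact Or.inr (Or.inr (Or.inr (Or.inl ⟨hexc h2d hp, U, h2d, hnd, hp, hUeq⟩)))
      · exact Or.inr (Or.inr (Or.inl ⟨U, h2d, hnd, hp, hUeq⟩))
    · exact Or.inr (Or.inr (Or.inr (Or.inr (Or.inl ⟨U, h4d, hnd, hUeq⟩))))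
  · exact Or.inr (Or.inr (Or.inr (Or.inr (Or.inr (Or.inl hline)))))

end Cfsg.Agent.Lib.MinusTen
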